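import Cfsg.Agent.HeldHe.Rels
import Cfsg.Agent.SporadicB.HePerm.Final
import Cfsg.Agent.SporadicB.HeUpper

/-!
# The ten letters in the presented Held group

Explicit words in the generators of `Cfsg.Spor.He` satisfying the relations `HeRels` and generating the group.
The relations are checked on a base of the representation on 2058 points.
-/

set_option autoImplicit false

namespace Cfsg.Agent.HeldHe.Model

open Cfsg.Spor Cfsg.Spor.He Cfsg.Agent.SporadicB.HePerm Cfsg.Agent.SporadicRecognition.CosetCert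
  Cfsg.Agent.HeldHe.Rels

/-- the ten letters as words in the generators -/
def W : ℕ → List Gen
  | 0 => [.c, .d, .f, .d, .e, .c, .d, .c, .d, .c, .e, .d, .f, .d, .c]
  | 1 => [.b, .a, .b]
  | 2 => [.f, .d, .f]
  | 3 => [.g, .e, .d, .f, .g, .d, .c, .b, .c, .d, .g, .f, .d, .e, .g]
  | 4 => [.d, .c, .d]
  | 5 => [.c, .d, .f, .e, .d, .c, .d, .b, .c, .d, .g, .f, .g, .d, .c, .b, .d, .c, .d, .e, .f, .d, .c]
  | 6 => [.c, .d, .f, .c, .d, .c, .d, .f, .d, .c, .d, .c, .b, .c, .d, .c, .d, .f, .d, .c, .d, .c, .f, .d, .c]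
  | 7 => [.d, .b, .c, .d, .c, .b, .d]
  | 8 => [.c, .d, .f, .e, .d, .c, .d, .c, .d, .c, .d, .e, .f, .d, .c]
  | 9 => [.c, .d, .g, .f, .d, .c, .d, .c, .d, .f, .g, .d, .c]
  | _ => []

/-- the generators as words in the letters -/
def V : Gen → List ℕ
  | .a => [5, 9, 1, 0, 1, 9, 5]
  | .b => [8, 6, 5, 1, 4, 1, 5, 6, 8]
  | .c => [8, 6, 8, 0, 7, 6, 8, 6, 7, 0, 8, 6, 8]
  | .d => [8, 6, 8, 7, 3, 2, 3, 7, 8, 6, 8]
  | .e => [8, 6, 8, 3, 7, 3, 8, 6, 8]
  | .f => [5, 4, 6, 8, 7, 8, 6, 4, 5]
  | .g => [4, 6, 8, 3, 2, 7, 8, 6, 9, 6, 8, 7, 2, 3, 8, 6, 4]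

theorem base_trivial (p : Equiv.Perm (Fin 2058)) (hp : p ∈ phi.range) (h0 : p 0 = 0) (h1 : p 1 = 1)
    (h2 : p 32 = 32) (h3 : p 8 = 8) : p = 1 := by
  obtain ⟨hfin, hle⟩ := Cfsg.Agent.SporadicB.HeUpper.card_he_le
  set H0 : Subgroup (Equiv.Perm (Fin 2058)) := phi.range with hH0
  set H1 := H0 ⊓ fixer 0 with hH1
  set H2 := H1 ⊓ fixer 1 with hH2
  set H3 := H2 ⊓ fixer 32 with hH3
  set H4 := H3 ⊓ fixer 8 with hH4
  have hK := fixK
  have hL := fixL
  have hM := fixM
  rw [List.all_eq_true] at hK hL hM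
  have e0 : Fin.ofNat 2058 (look Data.gOrd 0) = (0 : Fin 2058) := by rw [ordG0]; rfl
  have e1 : Fin.ofNat 2058 (look Data.kOrd 1) = (1 : Fin 2058) := by rw [ordK1]; rfl
  have e2 : Fin.ofNat 2058 (look Data.lOrd 0) = (32 : Fin 2058) := by rw [ordL0]; rfl
  have e3 : Fin.ofNat 2058 (look Data.mOrd 0) = (8 : Fin 2058) := by rw [ordM0]; rfl
  have s0 : 2058 * Nat.card H1 ≤ Nat.card H0 := by
    refine le_trans (Nat.mul_le_mul_right _ (card_pts treeG).ge) ?_
    apply chain_step H0 H1 (0 : Fin 2058) _ _ inf_le_left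
    · intro k hk; exact mem_fixer.mp hk.2
    · intro y hy
      have := reach_pts treeG H0 (fun w _ => prod_mem_range w) y hy
      rwa [e0] at this
  have s1 : 1360 * Nat.card H2 ≤ Nat.card H1 := by
    refine le_trans (Nat.mul_le_mul_right _ (card_pts treeK1).ge) ?_
    apply chain_step H1 H2 (1 : Fin 2058) _ _ inf_le_left
    · intro k hk; exact mem_fixer.mp hk.2
    · intro y hy
      have := reach_pts treeK1 H1 (fun w hw => ⟨prod_mem_range w,
        mem_fixer.mpr (fix_of_act (by norm_num) (Nat.eq_of_beq_eq_true (hK w hw)))⟩) y hy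
      rwa [e1] at this
  have s2 : 360 * Nat.card H3 ≤ Nat.card H2 := by
    refine le_trans (Nat.mul_le_mul_right _ (card_pts treeL).ge) ?_
    apply chain_step H2 H3 (32 : Fin 2058) _ _ inf_le_left
    · intro k hk; exact mem_fixer.mp hk.2
    · intro y hy
      have := reach_pts treeL H2 (fun w hw => by
        have h := hL w hw
        rw [Bool.and_eq_true] at h
        exact ⟨⟨prod_mem_range w, mem_fixer.mpr (fix_of_act (by norm_num) (Nat.eq_of_beq_eq_true h.1))⟩,
          mem_fixer.mpr (fix_of_act (by norm_num) (Nat.eq_of_beq_eq_true h.2))⟩) y hy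
      rwa [e2] at this
  have s3 : 4 * Nat.card H4 ≤ Nat.card H3 := by
    refine le_trans (Nat.mul_le_mul_right _ (card_pts treeM).ge) ?_
    apply chain_step H3 H4 (8 : Fin 2058) _ _ inf_le_left
    · intro k hk; exact mem_fixer.mp hk.2
    · intro y hy
      have := reach_pts treeM H3 (fun w hw => by
        have h := hM w hw
        rw [Bool.and_eq_true, Bool.and_eq_true] at h
        exact ⟨⟨⟨prod_mem_range w, mem_fixer.mpr (fix_of_act (by norm_num) (Nat.eq_of_beq_eq_true h.1))⟩,
          mem_fixer.mpr (fix_of_act (by norm_num) (Nat.eq_of_beq_eq_true h.2.1))⟩,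
          mem_fixer.mpr (fix_of_act (by norm_num) (Nat.eq_of_beq_eq_true h.2.2))⟩) y hy
      rwa [e3] at this
  have s4 : Nat.card H0 ≤ Nat.card Cfsg.Spor.He :=
    Nat.card_le_card_of_surjective phi.rangeRestrict phi.rangeRestrict_surjective
  have s5 : Nat.card H4 ≤ 1 := by omega
  have s6 : H4 = ⊥ := Subgroup.eq_bot_of_card_le H4 s5
  have s7 : p ∈ H4 := ⟨⟨⟨⟨hp, mem_fixer.mpr h0⟩, mem_fixer.mpr h1⟩, mem_fixer.mpr h2⟩, mem_fixer.mpr h3⟩
  rw [s6] at s7
  exact Subgroup.mem_bot.mp s7

/-- the ten letters in the presented Held group -/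
def L0 (n : ℕ) : Cfsg.Spor.He := wd (W n)

/-- apply the letters of `r` to a point, the first letter acts first -/
noncomputable def walk (r : List ℕ) : ℕ → ℕ :=
  List.rec (motive := fun _ => ℕ → ℕ) (fun i => i)
    (fun x _ ih i => Nat.rec (motive := fun _ => ℕ) (ih 0) (fun j _ => ih (Nat.succ j)) (act (W x) i)) r

theorem walk_cons (x : ℕ) (r : List ℕ) (i : ℕ) : walk (x :: r) i = walk r (act (W x) i) := by
  show Nat.rec (motive := fun _ => ℕ) (walk r 0) (fun j _ => walk r (Nat.succ j)) (act (W x) i) = _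
  rcases act (W x) i with _ | j <;> rfl

theorem walk_apply (r : List ℕ) (i : Fin 2058) :
    ((phi (ev L0 r.reverse) i : Fin 2058) : ℕ) = walk r i := by
  induction r generalizing i with
  | nil => rw [List.reverse_nil, ev_nil, map_one]; rfl
  | cons x r ih =>
    rw [List.reverse_cons, ev_append, ev_cons, ev_nil, mul_one, map_mul, Equiv.Perm.mul_apply, ih,
      walk_cons]
    congr 1
    exact phi_wd_apply (W x) i

/-- the four base points are fixed -/
noncomputable def okBase (f : ℕ → ℕ) : Bool :=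
  Bool.rec false (Bool.rec false (Bool.rec false (Nat.beq (f 8) 8) (Nat.beq (f 32) 32))
    (Nat.beq (f 1) 1)) (Nat.beq (f 0) 0)

theorem okBase_sound {f : ℕ → ℕ} (h : okBase f = true) : f 0 = 0 ∧ f 1 = 1 ∧ f 32 = 32 ∧ f 8 = 8 := by
  unfold okBase at h
  rcases h0 : Nat.beq (f 0) 0 with _ | _ <;> rw [h0] at h
  · exact absurd (show false = true from h) (by simp)
  rcases h1 : Nat.beq (f 1) 1 with _ | _ <;> rw [h1] at h
  · exact absurd (show false = true from h) (by simp)
  rcases h2 : Nat.beq (f 32) 32 with _ | _ <;> rw [h2] at h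
  · exact absurd (show false = true from h) (by simp)
  exact ⟨Nat.eq_of_beq_eq_true h0, Nat.eq_of_beq_eq_true h1, Nat.eq_of_beq_eq_true h2,
    Nat.eq_of_beq_eq_true h⟩

theorem phi_inj : Function.Injective phi := by
  obtain ⟨hfin, hle⟩ := Cfsg.Agent.SporadicB.HeUpper.card_he_le
  exact (injective_of_card_le hle).1

/-- an element of the presented Held group fixing the base is trivial -/
theorem eq_one_of_base {x : Cfsg.Spor.He} {f : ℕ → ℕ} (hf : ∀ i : Fin 2058, ((phi x i : Fin 2058) : ℕ) = f i)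
    (h : okBase f = true) : x = 1 := by
  obtain ⟨h0, h1, h2, h3⟩ := okBase_sound h
  apply phi_inj
  rw [map_one]
  refine base_trivial _ ⟨x, rfl⟩ ?_ ?_ ?_ ?_
  · exact Fin.ext ((hf 0).trans h0)
  · exact Fin.ext ((hf 1).trans h1)
  · exact Fin.ext ((hf 32).trans h2)
  · exact Fin.ext ((hf 8).trans h3)

/-- check of a list of relators -/
noncomputable def okAll (rs : List (List ℕ)) : Bool :=
  List.rec (motive := fun _ => Bool) true (fun r _ ih => Bool.rec false ih (okBase (walk r))) rs

theorem okAll_sound {rs : List (List ℕ)} (h : okAll rs = true) : ∀ r ∈ rs, ev L0 r.reverse = 1 := by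
  induction rs with
  | nil => simp
  | cons a rs ih =>
    have h' : (Bool.rec false (okAll rs) (okBase (walk a)) : Bool) = true := h
    rcases ha : okBase (walk a) with _ | _
    · rw [ha] at h'; exact absurd (show false = true from h') (by simp)
    rw [ha] at h'
    intro r hr
    rcases List.mem_cons.mp hr with rfl | hr
    · exact eq_one_of_base (walk_apply r) ha
    · exact ih h' r hr

/-- the squares -/
def sqs : List (List ℕ) := [[0,0],[1,1],[2,2],[3,3],[4,4],[5,5],[6,6],[7,7],[8,8],[9,9]]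

theorem okSq : okAll sqs = true := by decide +kernel

theorem sq : ∀ n < 10, L0 n * L0 n = 1 := by
  intro n hn
  have h := okAll_sound okSq [n, n] (by interval_cases n <;> simp [sqs])
  simpa [ev] using h

theorem ev_reverse {r : List ℕ} (hr : ∀ l ∈ r, l < 10) : ev L0 r.reverse = (ev L0 r)⁻¹ := by
  induction r with
  | nil => simp [ev]
  | cons x r ih =>
    rw [List.reverse_cons, ev_append, ev_cons, ev_nil, mul_one, ev_cons, mul_inv_rev,
      ih (fun l hl => hr l (by simp [hl]))]
    congr 1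
    exact (inv_eq_of_mul_eq_one_right (sq x (hr x (by simp)))).symm

theorem okA : okAll relsA = true := by decide +kernel

theorem okB : okAll relsB = true := by decide +kernel

theorem ltA : ∀ r ∈ relsA, ∀ l ∈ r, l < 10 := by decide +kernel

theorem ltB : ∀ r ∈ relsB, ∀ l ∈ r, l < 10 := by decide +kernel

/-- **The letters satisfy the relations.** -/
theorem heRels : HeRels L0 where
  sq := sq
  rel := by
    intro r hr
    have h := okAll_sound okA r hr
    rw [ev_reverse (ltA r hr)] at h
    exact inv_eq_one.mp h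
  relB := by
    intro r hr
    have h := okAll_sound okB r hr
    rw [ev_reverse (ltB r hr)] at h
    exact inv_eq_one.mp h

theorem okGen : (gens.all fun x => okBase fun i => walk (V x) (act [x] i)) = true := by decide +kernel

theorem V_lt : (gens.all fun x => (V x).all fun l => Nat.blt l 10) = true := by decide +kernel

theorem of_mem (x : Gen) : (PresentedGroup.of x : Cfsg.Spor.He) ∈ Subgroup.closure (L0 '' {n | n < 10}) := by
  have h := okGen
  rw [List.all_eq_true] at h
  have h1 := h x (mem_gens x)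
  have h2 : ev L0 (V x).reverse * (PresentedGroup.of x : Cfsg.Spor.He) = 1 := by
    refine eq_one_of_base (f := fun i => walk (V x) (act [x] i)) ?_ h1
    intro i
    have h5 : ((phi (PresentedGroup.of x) i : Fin 2058) : ℕ) = act [x] i := by
      have := phi_wd_apply [x] i
      simpa [wd] using this
    rw [map_mul, Equiv.Perm.mul_apply, walk_apply, h5]
  have h3 : (PresentedGroup.of x : Cfsg.Spor.He) = (ev L0 (V x).reverse)⁻¹ :=
    (inv_eq_of_mul_eq_one_right h2).symm
  rw [h3]
  refine Subgroup.inv_mem _ ?_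
  unfold ev
  refine Subgroup.list_prod_mem _ ?_
  intro y hy
  obtain ⟨l, hl, rfl⟩ := List.mem_map.mp hy
  have hv := V_lt
  rw [List.all_eq_true] at hv
  have hv1 := hv x (mem_gens x)
  rw [List.all_eq_true] at hv1
  exact Subgroup.subset_closure ⟨l, Nat.le_of_ble_eq_true (hv1 l (List.mem_reverse.mp hl)), rfl⟩

/-- **The letters generate the presented Held group.** -/
theorem closure_L0 : Subgroup.closure (L0 '' {n | n < 10}) = ⊤ := by
  rw [eq_top_iff, ← PresentedGroup.closure_range_of, Subgroup.closure_le]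
  rintro _ ⟨x, rfl⟩
  exact of_mem x

end Cfsg.Agent.HeldHe.Model
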