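import Cfsg.Agent.HeldHe.Bound
import Cfsg.Agent.HeldHe.Model
import Cfsg.Agent.Held.Letters

/-!
# A nontrivial group generated by letters satisfying `HeRels` is the presented Held group
-/

set_option autoImplicit false

namespace Cfsg.Agent.HeldHe.Ident

open Cfsg.Agent.SporadicRecognition.CosetCert Cfsg.Agent.HeldHe.Rels Cfsg.Agent.HeldHe.Model

theorem HeRels.prod {G H : Type*} [Group G] [Group H] {L : ℕ → G} {L' : ℕ → H} (h : HeRels L)
    (h' : HeRels L') : HeRels (fun n => (L n, L' n)) where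
  sq := fun n hn => Prod.ext (h.sq n hn) (h'.sq n hn)
  rel := by
    intro r hr
    rw [Held.Letters.ev_prod, h.rel r hr, h'.rel r hr]
    rfl
  relB := by
    intro r hr
    rw [Held.Letters.ev_prod, h.relB r hr, h'.relB r hr]
    rfl

theorem isHe : Cfsg.IsHe Cfsg.Spor.He := by
  obtain ⟨h1, h2⟩ := Cfsg.Agent.SporadicB.HeUpper.card_he_le
  exact Cfsg.Agent.SporadicB.HePerm.isHe_of_card_le h2

/-- **Identification**: letters of a group satisfying `HeRels`, not all trivial, generate a copy of the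
presented Held group. -/
theorem he_of_rels {G : Type*} [Group G] {L : ℕ → G} (h : HeRels L) (hne : ∃ n < 10, L n ≠ 1) :
    ∃ f : Cfsg.Spor.He →* G, Function.Injective f ∧ (∀ n < 10, f (L0 n) = L n) ∧
      f.range = Subgroup.closure (L '' {n | n < 10}) := by
  obtain ⟨hs, hc⟩ := isHe
  have hfin : Finite Cfsg.Spor.He := Cfsg.Agent.SporadicB.HeUpper.card_he_le.1
  obtain ⟨h1, h2⟩ := Bound.card_le (HeRels.prod heRels h)
  obtain ⟨f, hf1, hf2⟩ := Held.Letters.exists_hom L0 L 10 closure_L0 h1 (h2.trans hc.ge)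
  refine ⟨f, ?_, hf1, hf2⟩
  rw [← MonoidHom.ker_eq_bot_iff]
  rcases hs.eq_bot_or_eq_top_of_normal f.ker inferInstance with h3 | h3
  · exact h3
  · exfalso
    obtain ⟨n, hn, hn1⟩ := hne
    apply hn1
    rw [← hf1 n hn]
    have : L0 n ∈ f.ker := by rw [h3]; exact Subgroup.mem_top _
    exact this

/-- the same as an isomorphism -/
theorem equiv_of_rels {G : Type*} [Group G] {L : ℕ → G} (h : HeRels L) (hne : ∃ n < 10, L n ≠ 1) :
    Nonempty (Subgroup.closure (L '' {n | n < 10}) ≃* Cfsg.Spor.He) := by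
  obtain ⟨f, hf, -, hr⟩ := he_of_rels h hne
  rw [← hr]
  exact ⟨(MonoidHom.ofInjective hf).symm⟩

end Cfsg.Agent.HeldHe.Ident
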