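import Cfsg.Agent.HeldHe.GenL
import Cfsg.Agent.Held.Words

/-!
# The configuration `(1, 1)` satisfies the relations `HeRels`
-/

set_option autoImplicit false

namespace Cfsg.Agent.HeldHe.RelsOf

open Cfsg.Agent.SporadicRecognition.CosetCert Cfsg.Agent.Held.Config Cfsg.Agent.Held.Letters
  Cfsg.Agent.Held.Code Cfsg.Agent.HeldHe.Rels Cfsg.Agent.HeldHe.GenL
  Cfsg.Agent.Held.WordCore

/-- words of the tokens of side 1 in the ten letters: `p r n b v e e⁻¹` -/
def lt1 : ℕ → List ℕ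
  | 0 => [2]
  | 1 => [4]
  | 2 => [6]
  | 3 => [1]
  | 4 => [7]
  | 5 => [3,4,9,5,4,3]
  | 6 => [3,4,5,9,4,3]
  | _ => []

/-- words of the tokens of side 1 in the letters `gs1` -/
def gt1 : ℕ → List ℕ
  | 0 => [1]
  | 1 => [2]
  | 2 => [3]
  | 3 => [4]
  | 4 => [0,1]
  | 5 => [2,5,2]
  | 6 => [2,7,2]
  | _ => []

/-- words of the tokens of side 2 in the ten letters: `s q m a u f f⁻¹` -/
def lt2 : ℕ → List ℕ
  | 0 => [5]
  | 1 => [3]
  | 2 => [8]
  | 3 => [0]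
  | 4 => [9]
  | 5 => [4,3,7,2,3,4]
  | 6 => [4,3,2,7,3,4]
  | _ => []

/-- words of the tokens of side 2 in the letters `gs2` -/
def gt2 : ℕ → List ℕ
  | 0 => [1]
  | 1 => [2]
  | 2 => [3]
  | 3 => [4]
  | 4 => [0,1]
  | 5 => [2,5,2]
  | 6 => [2,7,2]
  | _ => []

/-- relators of side 1 -/
def T1 : List (List ℕ) := [[4,0,3,0,4,3], [4,0,2,0,4,2], [4,0,1,0,4,1], [4,0,4,0,4,0],
  [4,0,4,0,4,0,4,0,4,0,4,0], [5,3,0,5,3,0], [5,3,1,5,3,1], [5,0,3,5,0,3], [5,4,0,6,0,4],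
  [5,1,5,1,5,1], [5,3,5,1,5,3,5,1], [2,6,2,6,2,6,2,6,0,4],
  [5,4,2,0,5,4,2,0,5,4,2,0,5,4,2,0], [5,5,5]]

/-- relators of side 2 -/
def T2 : List (List ℕ) := [[4,0,3,0,4,3], [4,0,2,0,4,2], [4,0,1,0,4,1], [4,0,4,0,4,0],
  [4,0,4,0,4,0,4,0,4,0,4,0], [5,3,1,5,3,1], [5,3,0,5,3,0], [5,0,3,5,0,3], [5,1,5,1,5,1],
  [5,3,5,1,5,3,5,1], [2,6,2,6,2,6,2,6,0,4], [5,4,2,0,5,4,2,0,5,4,2,0,5,4,2,0]]

/-- the remaining relators -/
def SP : List (List ℕ) := [[2,7,0,3,0,7,2,3], [2,7,3,7,2,3,0,3,0], [2,7,5,7,2,0,3,1,0],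
  [5,9,1,4,1,9,5,4], [5,9,4,9,5,4,1,4,1], [5,9,2,9,5,1,4,0,1],
  [3,4,9,5,4,3,4,3,4,3,4,5,9,4,3,4,3,4], [4,3,7,2,3,4,3,4,3,4,3,2,7,3,4,3,4,3]]

/-- expansion of a list of tokens -/
def fm (f : ℕ → List ℕ) (l : List ℕ) : List ℕ := (l.map f).flatten

theorem classA : ∀ r ∈ relsA, inC r = true ∨ r ∈ T1.map (fm lt1) ∨ r ∈ T2.map (fm lt2) ∨ r ∈ SP := by
  decide +kernel

theorem classB : ∀ r ∈ relsB, r ∈ T1.map (fm lt1) ∨ r ∈ SP := by
  decide +kernel

section
variable {G : Type*} [Group G] {z : G} {ph : ℕ → G} {y1 y2 : G}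

theorem ev_fm (g : ℕ → G) (gs : ℕ → G) (f f' : ℕ → List ℕ) (hf : ∀ t, ev g (f t) = evalW gs (f' t))
    (l : List ℕ) : ev g (fm f l) = evalW gs (fm f' l) := by
  induction l with
  | nil => rfl
  | cons t l ih =>
    show ev g (f t ++ fm f l) = evalW gs (f' t ++ fm f' l)
    rw [ev_append, evalW_append, hf t, ih]

/-- products of coded elements -/
theorem ph3 (h : Emb z ph) {a b c : ℕ} (ha : C a) (hb : C b) (hc : C c) (e : mu a (mu b c) = e1) :
    ph a * (ph b * ph c) = 1 := by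
  rw [← h.mul hb hc, ← h.mul ha (hb.mul hc), e, Held.EmbSt.ph_e1 h]

theorem L2 : Lt ph y1 y2 2 = ph (X 0 1) := rfl

theorem L5 : Lt ph y1 y2 5 = ph (X 3 4) := rfl

/-- `C` for the letters -/
theorem cX {i j : ℕ} (h : isC (X i j) (X i j) = true) : C (X i j) := C_of_isC h

variable (h : Emb z ph) (c : Config (fun i j => ph (X i j)) 1 1 (ph (X 1 3)) y1 y2)

include h c

theorem uy1 : Lt ph y1 y2 9 * Lt ph y1 y2 5 = y1 := by
  have h2 := sq h c 5 (by norm_num)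
  rw [L5] at h2 ⊢
  rw [Lt9, mul_assoc, h2, mul_one]

theorem vy2 : Lt ph y1 y2 7 * Lt ph y1 y2 2 = y2 := by
  have h2 := sq h c 2 (by norm_num)
  rw [L2] at h2 ⊢
  rw [Lt7, mul_assoc, h2, mul_one]

theorem uy1' : Lt ph y1 y2 5 * Lt ph y1 y2 9 = y1⁻¹ := by
  have h1 := uy1 h c
  have h2 := sq h c 5 (by norm_num)
  have h3 := sq h c 9 (by norm_num)
  refine eq_inv_of_mul_eq_one_left ?_
  calc Lt ph y1 y2 5 * Lt ph y1 y2 9 * y1
      = Lt ph y1 y2 5 * Lt ph y1 y2 9 * (Lt ph y1 y2 9 * Lt ph y1 y2 5) := by rw [h1]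
    _ = Lt ph y1 y2 5 * (Lt ph y1 y2 9 * Lt ph y1 y2 9) * Lt ph y1 y2 5 := by
        simp only [mul_assoc]
    _ = 1 := by rw [h3, mul_one, h2]

theorem vy2' : Lt ph y1 y2 2 * Lt ph y1 y2 7 = y2⁻¹ := by
  have h1 := vy2 h c
  have h2 := sq h c 2 (by norm_num)
  have h3 := sq h c 7 (by norm_num)
  refine eq_inv_of_mul_eq_one_left ?_
  calc Lt ph y1 y2 2 * Lt ph y1 y2 7 * y2
      = Lt ph y1 y2 2 * Lt ph y1 y2 7 * (Lt ph y1 y2 7 * Lt ph y1 y2 2) := by rw [h1]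
    _ = Lt ph y1 y2 2 * (Lt ph y1 y2 7 * Lt ph y1 y2 7) * Lt ph y1 y2 2 := by
        simp only [mul_assoc]
    _ = 1 := by rw [h3, mul_one, h2]

/-- `q` commutes with `y1` -/
theorem qy1 : ph (lc 3) * y1 = y1 * ph (lc 3) := by
  have h1 : ph (X 1 2) * ph (X 0 4) ^ 1 * y1 = y1 * (ph (X 1 2) * ph (X 0 4) ^ 1) := c.side1.x12
  rw [pow_one, ← h.mul (cX (by decide +kernel)) (cX (by decide +kernel))] at h1
  exact h1

/-- `r` commutes with `y2` -/
theorem ry2 : ph (lc 4) * y2 = y2 * ph (lc 4) := by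
  have h1 : ph (X 2 3) * ph (X 0 4) ^ 1 * y2 = y2 * (ph (X 2 3) * ph (X 0 4) ^ 1) := c.side2.x12
  rw [pow_one, ← h.mul (cX (by decide +kernel)) (cX (by decide +kernel))] at h1
  exact h1

theorem qy1i : ph (lc 3) * y1⁻¹ = y1⁻¹ * ph (lc 3) := by
  rw [eq_inv_mul_iff_mul_eq, ← mul_assoc, ← qy1 h c]; group

theorem ry2i : ph (lc 4) * y2⁻¹ = y2⁻¹ * ph (lc 4) := by
  rw [eq_inv_mul_iff_mul_eq, ← mul_assoc, ← ry2 h c]; group

/-- general form of the blocks: `A y B` with `q` absorbed -/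
theorem block {A B A' B' k y : G} (hA : A = A' * k) (hB : B = k⁻¹ * B') (hk : k * y = y * k) :
    A * (y * B) = A' * (y * B') := by
  rw [hA, hB]
  calc A' * k * (y * (k⁻¹ * B')) = A' * (k * y * k⁻¹) * B' := by group
    _ = A' * (y * B') := by rw [hk]; group

theorem tok1 (t : ℕ) : ev (Lt ph y1 y2) (lt1 t) =
    evalW (Held.Words.gs1 (Held.Words.rt ph) 1 (ph (X 1 3)) y1 y2) (gt1 t) := by
  have c12 : C (X 1 2) := cX (by decide +kernel)
  have c04 : C (X 0 4) := cX (by decide +kernel)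
  have c13 : C (X 1 3) := cX (by decide +kernel)
  have c23 : C (X 2 3) := cX (by decide +kernel)
  have c02 : C (X 0 2) := cX (by decide +kernel)
  have c32 : C (X 3 2) := cX (by decide +kernel)
  have c34 : C (X 3 4) := cX (by decide +kernel)
  have k4 : Lt ph y1 y2 4 = ph (X 2 3) * ph (X 0 4) := h.mul c23 c04
  have hq : (ph (lc 3))⁻¹ = ph (lc 3) := inv_eq_of_mul_eq_one_right (by
    rw [← h.mul (C_lc 3) (C_lc 3), lc_sq, Held.EmbSt.ph_e1 h])
  have hblock : ∀ y : G, ph (lc 3) * y = y * ph (lc 3) →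
      Lt ph y1 y2 3 * (Lt ph y1 y2 4 * (y * (Lt ph y1 y2 4 * Lt ph y1 y2 3))) =
        ph (X 2 3) * ph (X 0 4) * (ph (X 1 3) * y * ph (X 1 3) * (ph (X 2 3) * ph (X 0 4))) := by
    intro y hy
    have e3 : Lt ph y1 y2 3 = ph (lc 3) := rfl
    have e4 : Lt ph y1 y2 4 = ph (lc 4) := rfl
    have hA : ph (lc 3) * ph (lc 4) = ph (lc 4) * ph (X 1 3) * ph (lc 3) := by
      rw [← h.mul (C_lc 3) (C_lc 4), ← h.mul (C_lc 4) c13, ← h.mul ((C_lc 4).mul c13) (C_lc 3)]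
      exact congrArg ph (by decide +kernel)
    have hB : ph (lc 4) * ph (lc 3) = (ph (lc 3))⁻¹ * (ph (X 1 3) * ph (lc 4)) := by
      rw [hq, ← h.mul (C_lc 4) (C_lc 3), ← h.mul c13 (C_lc 4),
        ← h.mul (C_lc 3) (c13.mul (C_lc 4))]
      exact congrArg ph (by decide +kernel)
    have hb := block h c hA hB hy
    rw [← k4, e3, e4]
    calc ph (lc 3) * (ph (lc 4) * (y * (ph (lc 4) * ph (lc 3))))
        = ph (lc 3) * ph (lc 4) * (y * (ph (lc 4) * ph (lc 3))) := by simp only [mul_assoc]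
      _ = _ := by rw [hb]; simp only [mul_assoc]
  match t with
  | 0 => show ev _ [2] = _; simp [ev, evalW, gt1, Held.Words.gs1, Held.Words.rt, L2]
  | 1 =>
    show ev _ [4] = _
    simp only [ev, evalW, gt1, Held.Words.gs1, Held.Words.rt, List.map_cons, List.map_nil,
      List.prod_cons, List.prod_nil, mul_one, pow_one]
    exact k4
  | 2 =>
    show ev _ [6] = _
    simp only [ev, evalW, gt1, Held.Words.gs1, Held.Words.rt, List.map_cons, List.map_nil,
      List.prod_cons, List.prod_nil, mul_one, pow_one]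
    exact h.mul c32 c04
  | 3 =>
    show ev _ [1] = _
    simp only [ev, evalW, gt1, Held.Words.gs1, Held.Words.rt, List.map_cons, List.map_nil,
      List.prod_cons, List.prod_nil, mul_one, pow_one]
    rw [← h.mul c02 c04, ← h.mul c34 (c02.mul c04)]
    exact congrArg ph (by decide +kernel)
  | 4 =>
    show ev _ [7] = _
    simp [ev, evalW, gt1, Held.Words.gs1, Held.Words.rt, Lt7]
  | 5 =>
    show ev _ [3,4,9,5,4,3] = _
    simp only [ev, evalW, gt1, Held.Words.gs1, Held.Words.rt, List.map_cons, List.map_nil,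
      List.prod_cons, List.prod_nil, mul_one, pow_one]
    calc Lt ph y1 y2 3 * (Lt ph y1 y2 4 * (Lt ph y1 y2 9 * (Lt ph y1 y2 5 *
          (Lt ph y1 y2 4 * Lt ph y1 y2 3))))
        = Lt ph y1 y2 3 * (Lt ph y1 y2 4 * (Lt ph y1 y2 9 * Lt ph y1 y2 5 *
          (Lt ph y1 y2 4 * Lt ph y1 y2 3))) := by simp only [mul_assoc]
      _ = _ := by rw [uy1 h c]; exact hblock y1 (qy1 h c)
  | 6 =>
    show ev _ [3,4,5,9,4,3] = _
    have e13 : (ph (X 1 3))⁻¹ = ph (X 1 3) := inv_eq_of_mul_eq_one_right (by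
      rw [← h.mul c13 c13]
      exact (congrArg ph (by decide +kernel : mu (X 1 3) (X 1 3) = e1)).trans (Held.EmbSt.ph_e1 h))
    have e5 : (ph (X 1 3) * y1 * ph (X 1 3))⁻¹ = ph (X 1 3) * y1⁻¹ * ph (X 1 3) := by
      rw [mul_inv_rev, mul_inv_rev, e13, mul_assoc]
    simp only [ev, evalW, gt1, Held.Words.gs1, Held.Words.rt, List.map_cons, List.map_nil,
      List.prod_cons, List.prod_nil, mul_one, pow_one]
    rw [e5]
    calc Lt ph y1 y2 3 * (Lt ph y1 y2 4 * (Lt ph y1 y2 5 * (Lt ph y1 y2 9 *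
          (Lt ph y1 y2 4 * Lt ph y1 y2 3))))
        = Lt ph y1 y2 3 * (Lt ph y1 y2 4 * (Lt ph y1 y2 5 * Lt ph y1 y2 9 *
          (Lt ph y1 y2 4 * Lt ph y1 y2 3))) := by simp only [mul_assoc]
      _ = _ := by rw [uy1' h c]; exact hblock y1⁻¹ (qy1i h c)
  | (n + 7) => rfl

theorem tok2 (t : ℕ) : ev (Lt ph y1 y2) (lt2 t) =
    evalW (Held.Words.gs2 (Held.Words.rt ph) 1 (ph (X 1 3)) y1 y2) (gt2 t) := by
  have c12 : C (X 1 2) := cX (by decide +kernel)
  have c04 : C (X 0 4) := cX (by decide +kernel)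
  have c13 : C (X 1 3) := cX (by decide +kernel)
  have c24 : C (X 2 4) := cX (by decide +kernel)
  have c21 : C (X 2 1) := cX (by decide +kernel)
  have c01 : C (X 0 1) := cX (by decide +kernel)
  have k3 : Lt ph y1 y2 3 = ph (X 1 2) * ph (X 0 4) := h.mul c12 c04
  have hr : (ph (lc 4))⁻¹ = ph (lc 4) := inv_eq_of_mul_eq_one_right (by
    rw [← h.mul (C_lc 4) (C_lc 4), lc_sq, Held.EmbSt.ph_e1 h])
  have hblock : ∀ y : G, ph (lc 4) * y = y * ph (lc 4) →
      Lt ph y1 y2 4 * (Lt ph y1 y2 3 * (y * (Lt ph y1 y2 3 * Lt ph y1 y2 4))) =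
        ph (X 1 2) * ph (X 0 4) * (ph (X 1 3) * y * ph (X 1 3) * (ph (X 1 2) * ph (X 0 4))) := by
    intro y hy
    have e3 : Lt ph y1 y2 3 = ph (lc 3) := rfl
    have e4 : Lt ph y1 y2 4 = ph (lc 4) := rfl
    have hA : ph (lc 4) * ph (lc 3) = ph (lc 3) * ph (X 1 3) * ph (lc 4) := by
      rw [← h.mul (C_lc 4) (C_lc 3), ← h.mul (C_lc 3) c13, ← h.mul ((C_lc 3).mul c13) (C_lc 4)]
      exact congrArg ph (by decide +kernel)
    have hB : ph (lc 3) * ph (lc 4) = (ph (lc 4))⁻¹ * (ph (X 1 3) * ph (lc 3)) := by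
      rw [hr, ← h.mul (C_lc 3) (C_lc 4), ← h.mul c13 (C_lc 3),
        ← h.mul (C_lc 4) (c13.mul (C_lc 3))]
      exact congrArg ph (by decide +kernel)
    have hb := block h c hA hB hy
    rw [← k3, e3, e4]
    calc ph (lc 4) * (ph (lc 3) * (y * (ph (lc 3) * ph (lc 4))))
        = ph (lc 4) * ph (lc 3) * (y * (ph (lc 3) * ph (lc 4))) := by simp only [mul_assoc]
      _ = _ := by rw [hb]; simp only [mul_assoc]
  match t with
  | 0 => show ev _ [5] = _; simp [ev, evalW, gt2, Held.Words.gs2, Held.Words.rt, L5]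
  | 1 =>
    show ev _ [3] = _
    simp only [ev, evalW, gt2, Held.Words.gs2, Held.Words.rt, List.map_cons, List.map_nil,
      List.prod_cons, List.prod_nil, mul_one, pow_one]
    exact k3
  | 2 =>
    show ev _ [8] = _
    simp only [ev, evalW, gt2, Held.Words.gs2, Held.Words.rt, List.map_cons, List.map_nil,
      List.prod_cons, List.prod_nil, mul_one, pow_one]
    exact h.mul c21 c04
  | 3 =>
    show ev _ [0] = _
    simp only [ev, evalW, gt2, Held.Words.gs2, Held.Words.rt, List.map_cons, List.map_nil,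
      List.prod_cons, List.prod_nil, mul_one, pow_one]
    rw [← h.mul c24 c04, ← h.mul c01 (c24.mul c04)]
    exact congrArg ph (by decide +kernel)
  | 4 =>
    show ev _ [9] = _
    simp [ev, evalW, gt2, Held.Words.gs2, Held.Words.rt, Lt9]
  | 5 =>
    show ev _ [4,3,7,2,3,4] = _
    simp only [ev, evalW, gt2, Held.Words.gs2, Held.Words.rt, List.map_cons, List.map_nil,
      List.prod_cons, List.prod_nil, mul_one, pow_one]
    calc Lt ph y1 y2 4 * (Lt ph y1 y2 3 * (Lt ph y1 y2 7 * (Lt ph y1 y2 2 *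
          (Lt ph y1 y2 3 * Lt ph y1 y2 4))))
        = Lt ph y1 y2 4 * (Lt ph y1 y2 3 * (Lt ph y1 y2 7 * Lt ph y1 y2 2 *
          (Lt ph y1 y2 3 * Lt ph y1 y2 4))) := by simp only [mul_assoc]
      _ = _ := by rw [vy2 h c]; exact hblock y2 (ry2 h c)
  | 6 =>
    show ev _ [4,3,2,7,3,4] = _
    have e13 : (ph (X 1 3))⁻¹ = ph (X 1 3) := inv_eq_of_mul_eq_one_right (by
      rw [← h.mul c13 c13]
      exact (congrArg ph (by decide +kernel : mu (X 1 3) (X 1 3) = e1)).trans (Held.EmbSt.ph_e1 h))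
    have e5 : (ph (X 1 3) * y2 * ph (X 1 3))⁻¹ = ph (X 1 3) * y2⁻¹ * ph (X 1 3) := by
      rw [mul_inv_rev, mul_inv_rev, e13, mul_assoc]
    simp only [ev, evalW, gt2, Held.Words.gs2, Held.Words.rt, List.map_cons, List.map_nil,
      List.prod_cons, List.prod_nil, mul_one, pow_one]
    rw [e5]
    calc Lt ph y1 y2 4 * (Lt ph y1 y2 3 * (Lt ph y1 y2 2 * (Lt ph y1 y2 7 *
          (Lt ph y1 y2 3 * Lt ph y1 y2 4))))
        = Lt ph y1 y2 4 * (Lt ph y1 y2 3 * (Lt ph y1 y2 2 * Lt ph y1 y2 7 *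
          (Lt ph y1 y2 3 * Lt ph y1 y2 4))) := by simp only [mul_assoc]
      _ = _ := by rw [vy2' h c]; exact hblock y2⁻¹ (ry2i h c)
  | (n + 7) => rfl

theorem rel_T1 {r : List ℕ} (hr : r ∈ T1.map (fm lt1)) : ev (Lt ph y1 y2) r = 1 := by
  obtain ⟨l, hl, rfl⟩ := List.mem_map.mp hr
  rw [ev_fm _ _ _ _ (tok1 h c)]
  have key : ∀ l ∈ T1, ((fm gt1 l).all fun a => Nat.blt a 8) = true ∧
      triv (Held.Words.Ms1 true) (fm gt1 l) = true := by decide +kernel
  obtain ⟨k1, k2⟩ := key l hl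
  exact Held.Words.E1 h (b1 := true) (b2 := true) (w := 16) (by norm_num)
    (Held.Acts.p1_16 (ph := ph)).symm c k1 k2

theorem rel_T2 {r : List ℕ} (hr : r ∈ T2.map (fm lt2)) : ev (Lt ph y1 y2) r = 1 := by
  obtain ⟨l, hl, rfl⟩ := List.mem_map.mp hr
  rw [ev_fm _ _ _ _ (tok2 h c)]
  have key : ∀ l ∈ T2, ((fm gt2 l).all fun a => Nat.blt a 8) = true ∧
      triv (Held.Words.Ms2 true) (fm gt2 l) = true := by decide +kernel
  obtain ⟨k1, k2⟩ := key l hl
  exact Held.Words.E2 h (b1 := true) (b2 := true) (w := 4) (by norm_num)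
    (Held.Acts.p2_4 (ph := ph)).symm c k1 k2

/-- `y⁻¹ A y B = 1` -/
theorem spA {y A A' B : G} (h1 : A * y = y * A') (h2 : A' * B = 1) : y⁻¹ * (A * (y * B)) = 1 := by
  calc y⁻¹ * (A * (y * B)) = y⁻¹ * (A * y) * B := by group
    _ = 1 := by rw [h1, ← mul_assoc, inv_mul_cancel, one_mul, h2]

theorem sp_y2 {A B : List ℕ} {a a' : ℕ} (hA : inC A = true) (hB : inC B = true) (ea : evl A = a)
    (h1 : ph a * y2 = y2 * ph a') (ca : C a') (h2 : mu a' (evl B) = e1) :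
    ev (Lt ph y1 y2) ([2,7] ++ (A ++ ([7,2] ++ B))) = 1 := by
  rw [ev_append, ev_append, ev_append, ev_Lt h A (inC_sound hA), ev_Lt h B (inC_sound hB), ea]
  have e27 : ev (Lt ph y1 y2) [2,7] = y2⁻¹ := by
    rw [ev_cons, ev_cons, ev_nil, mul_one, vy2' h c]
  have e72 : ev (Lt ph y1 y2) [7,2] = y2 := by
    rw [ev_cons, ev_cons, ev_nil, mul_one, vy2 h c]
  rw [e27, e72]
  refine spA h c h1 ?_
  rw [← h.mul ca (C_evl B), h2, Held.EmbSt.ph_e1 h]

theorem sp_y1 {A B : List ℕ} {a a' : ℕ} (hA : inC A = true) (hB : inC B = true) (ea : evl A = a)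
    (h1 : ph a * y1 = y1 * ph a') (ca : C a') (h2 : mu a' (evl B) = e1) :
    ev (Lt ph y1 y2) ([5,9] ++ (A ++ ([9,5] ++ B))) = 1 := by
  rw [ev_append, ev_append, ev_append, ev_Lt h A (inC_sound hA), ev_Lt h B (inC_sound hB), ea]
  have e27 : ev (Lt ph y1 y2) [5,9] = y1⁻¹ := by
    rw [ev_cons, ev_cons, ev_nil, mul_one, uy1' h c]
  have e72 : ev (Lt ph y1 y2) [9,5] = y1 := by
    rw [ev_cons, ev_cons, ev_nil, mul_one, uy1 h c]
  rw [e27, e72]
  refine spA h c h1 ?_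
  rw [← h.mul ca (C_evl B), h2, Held.EmbSt.ph_e1 h]

/-- action of `y2` on `V1` in terms of codes -/
theorem act_y2 (v : ℕ) (hv : v < 64) : ph (Held.Acts.v1c v) * y2 =
    y2 * ph (Held.Acts.v1c (app Held.Acts.A21 v)) :=
  Held.Acts.side2_acts1 h (Held.Words.toSide2 (b := true) h c.side2) v hv

/-- action of `y1` on `V2` in terms of codes -/
theorem act_y1 (v : ℕ) (hv : v < 64) : ph (Held.Acts.v2c v) * y1 =
    y1 * ph (Held.Acts.v2c (app Held.Acts.A12 v)) :=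
  Held.Acts.side_acts2 h (Held.Words.toSide1 (b := true) h c.side1) v hv

theorem rel_SP {r : List ℕ} (hr : r ∈ SP) : ev (Lt ph y1 y2) r = 1 := by
  simp only [SP, List.mem_cons, List.not_mem_nil, or_false] at hr
  rcases hr with rfl | rfl | rfl | rfl | rfl | rfl | rfl | rfl
  · exact sp_y2 (A := [0,3,0]) (B := [3]) h c (by decide) (by decide)
      (by decide +kernel : evl [0,3,0] = Held.Acts.v1c 41) (act_y2 h c 41 (by norm_num))
      (Held.Acts.v1_C (app_lt _ _)) (by decide +kernel)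
  · exact sp_y2 (A := [3]) (B := [3,0,3,0]) h c (by decide) (by decide)
      (by decide +kernel : evl [3] = Held.Acts.v1c 12) (act_y2 h c 12 (by norm_num))
      (Held.Acts.v1_C (app_lt _ _)) (by decide +kernel)
  · have h34 : ph (X 3 4) * y2 = y2 * ph (mu (X 3 4) (mu (X 1 4) (X 1 2))) := by
      have e : ph (X 3 4) * y2 = y2 * (ph (X 3 4) * (ph (X 1 4) * ph (X 1 2)) ^ 1) := c.side2.x01
      rw [pow_one, ← h.mul (cX (by decide +kernel)) (cX (by decide +kernel)),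
        ← h.mul (cX (by decide +kernel)) ((cX (by decide +kernel)).mul (cX (by decide +kernel)))] at e
      exact e
    exact sp_y2 (A := [5]) (B := [0,3,1,0]) h c (by decide) (by decide)
      (by decide +kernel : evl [5] = X 3 4) h34
      ((cX (by decide +kernel)).mul ((cX (by decide +kernel)).mul (cX (by decide +kernel))))
      (by decide +kernel)
  · exact sp_y1 (A := [1,4,1]) (B := [4]) h c (by decide) (by decide)
      (by decide +kernel : evl [1,4,1] = Held.Acts.v2c 49) (act_y1 h c 49 (by norm_num))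
      (Held.Acts.v2_C (app_lt _ _)) (by decide +kernel)
  · exact sp_y1 (A := [4]) (B := [4,1,4,1]) h c (by decide) (by decide)
      (by decide +kernel : evl [4] = Held.Acts.v2c 18) (act_y1 h c 18 (by norm_num))
      (Held.Acts.v2_C (app_lt _ _)) (by decide +kernel)
  · have h01 : ph (X 0 1) * y1 = y1 * ph (mu (X 0 1) (mu (X 0 3) (X 2 3))) := by
      have e : ph (X 0 1) * y1 = y1 * (ph (X 0 1) * (ph (X 0 3) * ph (X 2 3)) ^ 1) := c.side1.x01
      rw [pow_one, ← h.mul (cX (by decide +kernel)) (cX (by decide +kernel)),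
        ← h.mul (cX (by decide +kernel)) ((cX (by decide +kernel)).mul (cX (by decide +kernel)))] at e
      exact e
    exact sp_y1 (A := [2]) (B := [1,4,0,1]) h c (by decide) (by decide)
      (by decide +kernel : evl [2] = X 0 1) h01
      ((cX (by decide +kernel)).mul ((cX (by decide +kernel)).mul (cX (by decide +kernel))))
      (by decide +kernel)
  · show ev (Lt ph y1 y2) ([3,4] ++ ([9,5] ++ ([4,3,4,3,4,3,4] ++ ([5,9] ++ [4,3,4,3,4])))) = 1
    rw [ev_append, ev_append, ev_append, ev_append, ev_Lt h [3,4] (inC_sound (by decide)),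
      ev_Lt h [4,3,4,3,4,3,4] (inC_sound (by decide)), ev_Lt h [4,3,4,3,4] (inC_sound (by decide))]
    have e1' : ev (Lt ph y1 y2) [5,9] = y1⁻¹ := by
      rw [ev_cons, ev_cons, ev_nil, mul_one, uy1' h c]
    have e2' : ev (Lt ph y1 y2) [9,5] = y1 := by
      rw [ev_cons, ev_cons, ev_nil, mul_one, uy1 h c]
    rw [e1', e2', show evl [4,3,4,3,4,3,4] = lc 3 from by decide +kernel]
    have e3' : y1 * (ph (lc 3) * (y1⁻¹ * ph (evl [4,3,4,3,4]))) = ph (lc 3) * ph (evl [4,3,4,3,4]) := by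
      rw [← mul_assoc, ← qy1 h c]; group
    rw [e3']
    exact ph3 h (C_evl _) (C_lc 3) (C_evl _) (by decide +kernel)
  · show ev (Lt ph y1 y2) ([4,3] ++ ([7,2] ++ ([3,4,3,4,3,4,3] ++ ([2,7] ++ [3,4,3,4,3])))) = 1
    rw [ev_append, ev_append, ev_append, ev_append, ev_Lt h [4,3] (inC_sound (by decide)),
      ev_Lt h [3,4,3,4,3,4,3] (inC_sound (by decide)), ev_Lt h [3,4,3,4,3] (inC_sound (by decide))]
    have e1' : ev (Lt ph y1 y2) [2,7] = y2⁻¹ := by
      rw [ev_cons, ev_cons, ev_nil, mul_one, vy2' h c]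
    have e2' : ev (Lt ph y1 y2) [7,2] = y2 := by
      rw [ev_cons, ev_cons, ev_nil, mul_one, vy2 h c]
    rw [e1', e2', show evl [3,4,3,4,3,4,3] = lc 4 from by decide +kernel]
    have e3' : y2 * (ph (lc 4) * (y2⁻¹ * ph (evl [3,4,3,4,3]))) = ph (lc 4) * ph (evl [3,4,3,4,3]) := by
      rw [← mul_assoc, ← ry2 h c]; group
    rw [e3']
    exact ph3 h (C_evl _) (C_lc 4) (C_evl _) (by decide +kernel)

/-- **The configuration `(1, 1)` satisfies the relations.** -/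
theorem heRels : HeRels (Lt ph y1 y2) where
  sq := sq h c
  rel := by
    intro r hr
    rcases classA r hr with h1 | h1 | h1 | h1
    · exact rel_C h hr h1
    · exact rel_T1 h c h1
    · exact rel_T2 h c h1
    · exact rel_SP h c h1
  relB := by
    intro r hr
    rcases classB r hr with h1 | h1
    · exact rel_T1 h c h1
    · exact rel_SP h c h1

end

end Cfsg.Agent.HeldHe.RelsOf
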