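import Cfsg.Agent.HeldHe.Ident
import Cfsg.Agent.HeldHe.RelsOf

/-!
# Configuration `(1, 1)`: `⟨C(z), y1, y2⟩` is the Held group
-/

set_option autoImplicit false

namespace Cfsg.Agent.HeldHe.HeCase

open Cfsg.Agent.Held.Config Cfsg.Agent.Held.Code Cfsg.Agent.HeldHe.Rels Cfsg.Agent.HeldHe.GenL
  Cfsg.Agent.HeldHe.Model

variable {G : Type*} [Group G] {z : G} {ph : ℕ → G} {y1 y2 : G}

/-- **Configuration `(1, 1)`**: `⟨C(z), y1, y2⟩` is a copy of the presented Held group. -/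
theorem he11 (h : Emb z ph) (hz : z ≠ 1)
    (c : Config (fun i j => ph (X i j)) 1 1 (ph (X 1 3)) y1 y2) :
    ∃ f : Cfsg.Spor.He →* G, Function.Injective f ∧
      f.range = Subgroup.centralizer ({z} : Set G) ⊔ Subgroup.closure {y1, y2} ∧
      (∀ n < 10, f (L0 n) = Lt ph y1 y2 n) := by
  have hr := RelsOf.heRels h c
  have hne : ∃ n < 10, Lt ph y1 y2 n ≠ 1 := by
    by_contra hcon
    push Not at hcon
    have h1 : Subgroup.closure (Lt ph y1 y2 '' {n | n < 10}) = ⊥ := by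
      rw [Subgroup.closure_eq_bot_iff]
      rintro _ ⟨n, hn, rfl⟩
      exact hcon n hn
    rw [closure_Lt h] at h1
    have h2 : z ∈ Subgroup.centralizer ({z} : Set G) ⊔ Subgroup.closure {y1, y2} :=
      Subgroup.mem_sup_left (by rw [Subgroup.mem_centralizer_singleton_iff])
    rw [h1, Subgroup.mem_bot] at h2
    exact hz h2
  obtain ⟨f, hf, hL, hrange⟩ := Ident.he_of_rels hr hne
  exact ⟨f, hf, hrange.trans (closure_Lt h), hL⟩

end Cfsg.Agent.HeldHe.HeCase
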