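import Cfsg.Agent.SporadicRecognition.CosetChain

/-!
# Fast check of the word table of a coset certificate

The word table of a certificate is checked against the list of relators with the help of a tree of codes
`64 * (index of the relator) + 2 * rotation + flip`.  All functions are written with raw recursors.
-/

set_option autoImplicit false
set_option linter.unusedSectionVars false
set_option linter.unusedVariables false

namespace Cfsg.Agent.HeldHe.FastHyp

open Cfsg.Agent.SporadicRecognition.CosetCert Cfsg.Agent.SporadicRecognition.CosetCertHyp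
  Cfsg.Agent.SporadicRecognition.CosetChain

/-- equality of lists -/
noncomputable def leq (a : List Nat) : List Nat → Bool :=
  List.rec (motive := fun _ => List Nat → Bool)
    (fun b => List.rec (motive := fun _ => Bool) true (fun _ _ _ => false) b)
    (fun x _ ih b => List.rec (motive := fun _ => Bool) false
      (fun y t _ => Bool.rec false (ih t) (Nat.beq x y)) b) a

theorem leq_sound {a b : List Nat} (h : leq a b = true) : a = b := by
  induction a generalizing b with
  | nil =>
    cases b with
    | nil => rfl
    | cons y t => exact absurd (show false = true from h) (by simp)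
  | cons x a ih =>
    cases b with
    | nil => exact absurd (show false = true from h) (by simp)
    | cons y t =>
      have h' : (Bool.rec false (leq a t) (Nat.beq x y) : Bool) = true := h
      rcases hxy : Nat.beq x y with _ | _
      · rw [hxy] at h'; exact absurd (show false = true from h') (by simp)
      · rw [hxy] at h'
        rw [Nat.eq_of_beq_eq_true hxy, ih h']

/-- `app a b = a ++ b` -/
noncomputable def app (a b : List Nat) : List Nat :=
  List.rec (motive := fun _ => List Nat) b (fun x _ ih => x :: ih) a

theorem app_eq (a b : List Nat) : app a b = a ++ b := by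
  induction a with
  | nil => rfl
  | cons x a ih =>
    show x :: app a b = x :: (a ++ b)
    rw [ih]

/-- `rotate n u acc`: rotation by `n` of `u`, where `acc` collects the dropped letters in reverse order -/
noncomputable def rot (n : Nat) : List Nat → List Nat → List Nat :=
  Nat.rec (motive := fun _ => List Nat → List Nat → List Nat) (fun u acc => app u acc)
    (fun _ ih u acc => List.rec (motive := fun _ => List Nat) (ih [] acc)
      (fun x t _ => ih t (app acc [x])) u) n

theorem rot_spec {G : Type*} [Group G] (g : Nat → G) (n : Nat) :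
    ∀ u acc : List Nat, ev g acc * ev g u = 1 → ev g (rot n u acc) = 1 := by
  induction n with
  | zero =>
    intro u acc h
    show ev g (app u acc) = 1
    rw [app_eq, ev_append]
    exact mul_eq_one_comm.mp h
  | succ n ih =>
    intro u acc h
    cases u with
    | nil => exact ih [] acc h
    | cons x t =>
      refine ih t (app acc [x]) ?_
      rw [app_eq, ev_append, ev_cons, ev_nil, mul_one, mul_assoc, ← ev_cons]
      exact h

/-- `n`-th element -/
noncomputable def nth (l : List (List Nat)) : Nat → List Nat :=
  List.rec (motive := fun _ => Nat → List Nat) (fun _ => [])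
    (fun a _ ih n => Nat.rec (motive := fun _ => List Nat) a (fun m _ => ih m) n) l

theorem nth_spec {P : List Nat → Prop} (h0 : P []) {l : List (List Nat)} (h : ∀ r ∈ l, P r) (n : Nat) :
    P (nth l n) := by
  induction l generalizing n with
  | nil => exact h0
  | cons a l ih =>
    cases n with
    | zero => exact h a (by simp)
    | succ m => exact ih (fun r hr => h r (by simp [hr])) m

/-- formal inverse -/
noncomputable def finv (inv : Nat → Nat) (w : List Nat) : List Nat :=
  List.rec (motive := fun _ => List Nat) [] (fun x _ ih => app ih [inv x]) w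

theorem finv_spec {G : Type*} [Group G] (g : Nat → G) (inv : Nat → Nat) (k : Nat)
    (hinv : ∀ x, x < k → inv x < k ∧ g x * g (inv x) = 1) (w : List Nat) (hw : ∀ y ∈ w, y < k) :
    ev g (finv inv w) = (ev g w)⁻¹ := by
  induction w with
  | nil => show ev g [] = (ev g [])⁻¹; rw [ev_nil, inv_one]
  | cons x w ih =>
    show ev g (app (finv inv w) [inv x]) = _
    rw [app_eq, ev_append, ih (fun y hy => hw y (by simp [hy])), ev_cons, ev_cons, ev_nil, mul_one,
      mul_inv_rev]
    congr 1
    exact (inv_eq_of_mul_eq_one_right (hinv x (hw x (by simp))).2).symm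

/-- all letters `< k` -/
noncomputable def allLt (k : Nat) (w : List Nat) : Bool :=
  List.rec (motive := fun _ => Bool) true (fun x _ ih => Bool.rec false ih (Nat.blt x k)) w

theorem allLt_sound {k : Nat} {w : List Nat} (h : allLt k w = true) : ∀ y ∈ w, y < k := by
  induction w with
  | nil => simp
  | cons x w ih =>
    have h' : (Bool.rec false (allLt k w) (Nat.blt x k) : Bool) = true := h
    rcases hx : Nat.blt x k with _ | _
    · rw [hx] at h'; exact absurd (show false = true from h') (by simp)
    · rw [hx] at h'
      intro y hy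
      rcases List.mem_cons.mp hy with rfl | hy
      · exact Nat.le_of_ble_eq_true hx
      · exact ih h' y hy

/-- check of one leaf of the word table -/
noncomputable def okW (inv : Nat → Nat) (k : Nat) (rels : List (List Nat)) (x : Nat) (w : List Nat)
    (c : Nat) : Bool :=
  Bool.rec false
    (Bool.rec
      -- x < k
      (Bool.rec false
        (leq (app w [inv x]) (rot (Nat.land (Nat.shiftRight c 1) 31)
          (Bool.rec (finv inv (nth rels (Nat.shiftRight c 6))) (nth rels (Nat.shiftRight c 6))
            (Nat.beq (Nat.land c 1) 0)) []))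
        (Nat.blt x k))
      -- x = k
      (leq w (rot (Nat.land (Nat.shiftRight c 1) 31)
          (Bool.rec (finv inv (nth rels (Nat.shiftRight c 6))) (nth rels (Nat.shiftRight c 6))
            (Nat.beq (Nat.land c 1) 0)) []))
      (Nat.beq x k))
    (allLt k w)

variable {G : Type*} [Group G] (g : Nat → G)

theorem tgt_spec {inv : Nat → Nat} {k : Nat} (hinv : ∀ x, x < k → inv x < k ∧ g x * g (inv x) = 1)
    {rels : List (List Nat)} (hlt : ∀ r ∈ rels, ∀ l ∈ r, l < k) (hrel : ∀ r ∈ rels, ev g r = 1)
    (c : Nat) : ev g (rot (Nat.land (Nat.shiftRight c 1) 31)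
          (Bool.rec (finv inv (nth rels (Nat.shiftRight c 6))) (nth rels (Nat.shiftRight c 6))
            (Nat.beq (Nat.land c 1) 0)) []) = 1 := by
  refine rot_spec g _ _ _ ?_
  rw [ev_nil, one_mul]
  have h1 : ev g (nth rels (Nat.shiftRight c 6)) = 1 := nth_spec (P := fun r => ev g r = 1) (ev_nil g) hrel _
  have h2 : ∀ l ∈ nth rels (Nat.shiftRight c 6), l < k :=
    nth_spec (P := fun r => ∀ l ∈ r, l < k) (by simp) hlt _
  rcases Nat.beq (Nat.land c 1) 0 with _ | _
  · show ev g (finv inv (nth rels (Nat.shiftRight c 6))) = 1
    rw [finv_spec g inv k hinv _ h2, h1, inv_one]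
  · exact h1

theorem okW_sound {inv : Nat → Nat} {k : Nat} (hk : g k = 1)
    (hinv : ∀ x, x < k → inv x < k ∧ g x * g (inv x) = 1)
    {rels : List (List Nat)} (hlt : ∀ r ∈ rels, ∀ l ∈ r, l < k) (hrel : ∀ r ∈ rels, ev g r = 1)
    {x : Nat} {w : List Nat} {c : Nat} (h : okW inv k rels x w c = true) :
    x ≤ k ∧ (∀ y ∈ w, y ≤ k) ∧ g x = ev g w := by
  unfold okW at h
  rcases hw : allLt k w with _ | _
  · rw [hw] at h; exact absurd (show false = true from h) (by simp)
  rw [hw] at h
  have hw' := allLt_sound hw
  have hspec := tgt_spec g hinv hlt hrel c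
  rcases hx : Nat.beq x k with _ | _
  · rw [hx] at h
    rcases hxk : Nat.blt x k with _ | _
    · rw [hxk] at h; exact absurd (show false = true from h) (by simp)
    rw [hxk] at h
    have hxk' : x < k := Nat.le_of_ble_eq_true hxk
    refine ⟨hxk'.le, fun y hy => (hw' y hy).le, ?_⟩
    have h3 := leq_sound h
    rw [← h3, app_eq, ev_append, ev_cons, ev_nil, mul_one] at hspec
    have h9 : g (inv x) = (g x)⁻¹ := (inv_eq_of_mul_eq_one_right (hinv x hxk').2).symm
    rw [h9] at hspec
    exact (mul_inv_eq_one.mp hspec).symm
  · rw [hx] at h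
    have hxk : x = k := Nat.eq_of_beq_eq_true hx
    refine ⟨hxk.le, fun y hy => (hw' y hy).le, ?_⟩
    have h3 := leq_sound h
    rw [← h3] at hspec
    rw [hxk, hk, hspec]

/-- check of the word table -/
noncomputable def chk (inv : Nat → Nat) (k : Nat) (rels : List (List Nat)) (T : WT) : Tr → Bool :=
  WT.rec (motive := fun _ => Tr → Bool)
    (fun x w t => Tr.rec (motive := fun _ => Bool) (fun c => okW inv k rels x w c)
      (fun _ _ _ _ _ => false) t)
    (fun _ _ _ a b t => Tr.rec (motive := fun _ => Bool) (fun _ => false)
      (fun _ l r _ _ => Bool.rec false (b r) (a l)) t) T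

theorem chk_sound {inv : Nat → Nat} {k : Nat} (hk : g k = 1)
    (hinv : ∀ x, x < k → inv x < k ∧ g x * g (inv x) = 1)
    {rels : List (List Nat)} (hlt : ∀ r ∈ rels, ∀ l ∈ r, l < k) (hrel : ∀ r ∈ rels, ev g r = 1)
    {T : WT} {t : Tr} (h : chk inv k rels T t = true) :
    T.All fun x w => x ≤ k ∧ (∀ y ∈ w, y ≤ k) ∧ g x = ev g w := by
  induction T generalizing t with
  | L x w =>
    cases t with
    | L c => exact okW_sound g hk hinv hlt hrel h
    | N m l r => exact absurd (show false = true from h) (by simp)
  | N m a b iha ihb =>
    cases t with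
    | L c => exact absurd (show false = true from h) (by simp)
    | N m' l r =>
      have h' : (Bool.rec false (chk inv k rels b r) (chk inv k rels a l) : Bool) = true := h
      rcases hl : chk inv k rels a l with _ | _
      · rw [hl] at h'; exact absurd (show false = true from h') (by simp)
      · rw [hl] at h'
        exact ⟨iha hl, ihb h'⟩

/-- bound from a certificate with a fast check of the words -/
theorem bound (C : Cert) (g : ℕ → G) (H : Subgroup G) [Finite H] (rels subw : List (List ℕ)) (t : Tr) {n : ℕ}
    (hP : Part C 0 C.N n) (hN : Nat.blt 0 C.N = true)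
    (hinv : ∀ x, x < C.k → C.inv x < C.k ∧ g x * g (C.inv x) = 1)
    (hlt : ∀ r ∈ rels, ∀ l ∈ r, l < C.k) (hrel : ∀ r ∈ rels, ev g r = 1)
    (hslt : ∀ r ∈ subw, ∀ l ∈ r, l < C.k) (hsub : ∀ s ∈ subw, ev g s ∈ H)
    (hcheck : chk C.inv C.k rels C.words t = true)
    (hs : ST.allB (okSub C.inv C.k subw) C.subs = true) :
    Finite (Subgroup.closure (g '' {x | x < C.k})) ∧
      Nat.card (Subgroup.closure (g '' {x | x < C.k})) ≤ n * Nat.card H := by
  have hinv' : ∀ x, x < C.k → C.inv x < C.k ∧
      cut g C.k x * cut g C.k (C.inv x) = 1 := by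
    intro x hx
    have h := hinv x hx
    exact ⟨h.1, by rw [cut_of_lt g hx, cut_of_lt g h.1]; exact h.2⟩
  have h0 : Hyp C H (cut g C.k) := by
    have hyp0 : Hyp { C with words := .L C.k [] } H (cut g C.k) :=
      hyp_of_checks H (cut g C.k) { C with words := .L C.k [] } [] subw
        (cut_self g _) hinv' (by simp)
        (by intro r hr; rw [ev_cut g _ r (hslt r hr)]; exact hsub r hr) (by
          unfold checkHyp
          rw [Bool.and_eq_true, Bool.and_eq_true]
          refine ⟨⟨?_, hs⟩, hN⟩
          show okWord C.inv C.k [] C.k [] = true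
          unfold okWord okRel isRot invw
          simp)
    refine ⟨cut_self g _, hinv', ?_, hyp0.hsubs, hyp0.hN⟩
    exact chk_sound (cut g C.k) (cut_self g _) hinv' hlt
      (fun r hr => by rw [ev_cut g _ r (hlt r hr)]; exact hrel r hr) hcheck
  have h := card_closure_le C H (cut g C.k) h0 hP
  rw [image_cut] at h
  exact h

end Cfsg.Agent.HeldHe.FastHyp
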