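import Cfsg.Agent.SporadicRecognition.CosetCert

/-! Codes for the word tables of the certificates `AData`, `BData`, `CData`. -/

set_option autoImplicit false
set_option maxRecDepth 100000

namespace Cfsg.Agent.HeldHe.WordCodes

open Cfsg.Agent.SporadicRecognition.CosetCert

noncomputable def tA : Tr := (.N 912 (.N 456 (.N 228 (.N 114 (.N 57 (.N 28 (.N 14 (.N 7 (.N 3 (.N 1 (.L 64) (.N 2 (.L 128) (.L 192))) (.N 5 (.N 4 (.L 7176) (.L 7504)) (.N 6 (.L 9415) (.L 9280)))) (.N 10 (.N 8 (.L 640) (.N 9 (.L 576) (.L 2))) (.N 12 (.N 11 (.L 512) (.L 1153)) (.N 13 (.L 6146) (.L 1024))))) (.N 21 (.N 17 (.N 15 (.L 386) (.N 16 (.L 6210) (.L 5058))) (.N 19 (.N 18 (.L 13262) (.L 1152)) (.N 20 (.L 7557) (.L 704)))) (.N 24 (.N 22 (.L 258) (.N 23 (.L 832) (.L 1089))) (.N 26 (.N 25 (.L 6464) (.L 6336)) (.N 27 (.L 7439) (.L 768)))))) (.N 42 (.N 35 (.N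 31 (.N 29 (.L 9048) (.N 30 (.L 7494) (.L 10589))) (.N 33 (.N 32 (.L 130) (.L 898)) (.N 34 (.L 5890) (.L 9548)))) (.N 38 (.N 36 (.L 12367) (.N 37 (.L 12749) (.L 13335))) (.N 40 (.N 39 (.L 6400) (.L 6080)) (.N 41 (.L 7622) (.L 322))))) (.N 49 (.N 45 (.N 43 (.L 6530) (.N 44 (.L 578) (.L 7234))) (.N 47 (.N 46 (.L 9290) (.L 9692)) (.N 48 (.L 6144) (.L 6208)))) (.N 53 (.N 51 (.N 50 (.L 6090) (.L 10696)) (.N 52 (.L 9928) (.L 9927))) (.N 55 (.N 54 (.L 13574) (.L 7567)) (.N 56 (.L 1096) (.L 7817))))))) (.N 85 (.N 71 (.N 64 (.N 60 (.N 58 (.L 8515) (.N 59 (.L 6410) (.L 706))) (.N 62 (.N 61 (.L 960) (.L 66)) (.N 63 (.L 5382) (.L 1156)))) (.N 67 (.N 65 (.L 194) (.N 66 (.L 6274) (.L 10563))) (.N 69 (.N 68 (.L 10566) (.L 11334)) (.N 70 (.L 384) (.L 1026))))) (.N 78 (.N 74 (.N 72 (.L 6218) (.N 73 (.L 5130) (.L 1093))) (.N 76 (.N 75 (.L 2372) (.L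 8004)) (.N 77 (.L 6474) (.L 896)))) (.N 81 (.N 79 (.L 7168) (.N 80 (.L 320) (.L 1226))) (.N 83 (.N 82 (.L 7368) (.L 9818)) (.N 84 (.L 9920) (.L 962)))))) (.N 99 (.N 92 (.N 88 (.N 86 (.L 642) (.N 87 (.L 450) (.L 6154))) (.N 90 (.N 89 (.L 7360) (.L 6338)) (.N 91 (.L 7503) (.L 7569)))) (.N 95 (.N 93 (.L 7496) (.N 94 (.L 6402) (.L 7624))) (.N 97 (.N 96 (.L 9297) (.L 10250)) (.N 98 (.L 1284) (.L 12756))))) (.N 106 (.N 102 (.N 100 (.L 1159) (.N 101 (.L 1152) (.L 7568))) (.N 104 (.N 103 (.L 13317) (.L 1095)) (.N 105 (.L 7437) (.L 7430)))) (.N 110 (.N 108 (.N 107 (.L 13684) (.L 1091)) (.N 109 (.L 2186) (.L 2112))) (.N 112 (.N 111 (.L 7492) (.L 12803)) (.N 113 (.L 9354) (.L 13356)))))))) (.N 171 (.N 142 (.N 128 (.N 121 (.N 117 (.N 115 (.L 13283) (.N 116 (.L 7232) (.L 9557))) (.N 119 (.N 118 (.L 9558) (.L 4480)) (.N 120 (.L 7296) (.L 3840))))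 (.N 124 (.N 122 (.L 1290) (.N 123 (.L 1155) (.L 13488))) (.N 126 (.N 125 (.L 9409) (.L 9298)) (.N 127 (.L 10312) (.L 5056))))) (.N 135 (.N 131 (.N 129 (.L 514) (.N 130 (.L 1157) (.L 3910))) (.N 133 (.N 132 (.L 6082) (.L 6016)) (.N 134 (.L 6466) (.L 6404)))) (.N 138 (.N 136 (.L 10247) (.N 137 (.L 2756) (.L 448))) (.N 140 (.N 139 (.L 3784) (.L 2822)) (.N 141 (.L 3778) (.L 6528)))))) (.N 156 (.N 149 (.N 145 (.N 143 (.L 7438) (.N 144 (.L 10057) (.L 6468))) (.N 147 (.N 146 (.L 4420) (.L 5124)) (.N 148 (.L 9293) (.L 9473)))) (.N 152 (.N 150 (.L 8773) (.N 151 (.L 9299) (.L 7629))) (.N 154 (.N 153 (.L 12106) (.L 5194)) (.N 155 (.L 5832) (.L 1161))))) (.N 163 (.N 159 (.N 157 (.L 7565) (.N 158 (.L 1220) (.L 3462))) (.N 161 (.N 160 (.L 9550) (.L 9031)) (.N 162 (.L 13475) (.L 12238)))) (.N 167 (.N 165 (.N 164 (.L 12435) (.L 9547)) (.N 166 (.L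 5888) (.L 7042))) (.N 169 (.N 168 (.L 8837) (.L 10186)) (.N 170 (.L 3904) (.L 6850))))))) (.N 199 (.N 185 (.N 178 (.N 174 (.N 172 (.L 4426) (.N 173 (.L 5256) (.L 6978))) (.N 176 (.N 175 (.L 9681) (.L 10252)) (.N 177 (.L 7558) (.L 13705)))) (.N 181 (.N 179 (.L 10374) (.N 180 (.L 5442) (.L 5314))) (.N 183 (.N 182 (.L 6016) (.L 3844)) (.N 184 (.L 7362) (.L 10250))))) (.N 192 (.N 188 (.N 186 (.L 12486) (.N 187 (.L 3840) (.L 7554))) (.N 190 (.N 189 (.L 13510) (.L 13740)) (.N 191 (.L 10560) (.L 12483)))) (.N 195 (.N 193 (.L 13527) (.N 194 (.L 7631) (.L 10561))) (.N 197 (.N 196 (.L 7428) (.L 7620)) (.N 198 (.L 9302) (.L 9554)))))) (.N 213 (.N 206 (.N 202 (.N 200 (.L 6148) (.N 201 (.L 4673) (.L 12943))) (.N 204 (.N 203 (.L 10560) (.L 11526)) (.N 205 (.L 5190) (.L 10699)))) (.N 209 (.N 207 (.L 2626) (.N 208 (.L 9300) (.L 2818))) (.N 211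 (.N 210 (.L 2496) (.L 10248)) (.N 212 (.L 10313) (.L 11408))))) (.N 220 (.N 216 (.N 214 (.L 12240) (.N 215 (.L 12169) (.L 7180))) (.N 218 (.N 217 (.L 7942) (.L 834)) (.N 219 (.L 4358) (.L 2762)))) (.N 224 (.N 222 (.N 221 (.L 5962) (.L 4294)) (.N 223 (.L 13651) (.L 13838))) (.N 226 (.N 225 (.L 1664) (.L 4742)) (.N 227 (.L 13655) (.L 7622))))))))) (.N 342 (.N 285 (.N 256 (.N 242 (.N 235 (.N 231 (.N 229 (.L 7178) (.N 230 (.L 7170) (.L 10569))) (.N 233 (.N 232 (.L 4227) (.L 4288)) (.N 234 (.L 6346) (.L 7106)))) (.N 238 (.N 236 (.L 10379) (.N 237 (.L 10446) (.L 7816))) (.N 240 (.N 239 (.L 6084) (.L 7366)) (.N 241 (.L 7566) (.L 10581))))) (.N 249 (.N 245 (.N 243 (.L 10505) (.N 244 (.L 4676) (.L 9296))) (.N 247 (.N 246 (.L 5697) (.L 4490)) (.N 248 (.L 10122) (.L 5762)))) (.N 252 (.N 250 (.L 3456) (.N 251 (.L 7937) (.L 13199))) (.N 254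 (.N 253 (.L 1097) (.L 5184)) (.N 255 (.L 7372) (.L 7490)))))) (.N 270 (.N 263 (.N 259 (.N 257 (.L 13831) (.N 258 (.L 7441) (.L 10625))) (.N 261 (.N 260 (.L 2820) (.L 10590)) (.N 262 (.L 10565) (.L 6594)))) (.N 266 (.N 264 (.L 8007) (.N 265 (.L 7104) (.L 7172))) (.N 268 (.N 267 (.L 10630) (.L 9803)) (.N 269 (.L 3970) (.L 12224))))) (.N 277 (.N 273 (.N 271 (.L 7492) (.N 272 (.L 9934) (.L 10253))) (.N 275 (.N 274 (.L 10382) (.L 7364)) (.N 276 (.L 4292) (.L 7751)))) (.N 281 (.N 279 (.N 278 (.L 6022) (.L 10257)) (.N 280 (.L 10703) (.L 3585))) (.N 283 (.N 282 (.L 5700) (.L 6340)) (.N 284 (.L 7174) (.L 12931))))))) (.N 313 (.N 299 (.N 292 (.N 288 (.N 286 (.L 9304) (.N 287 (.L 2692) (.L 6976))) (.N 290 (.N 289 (.L 7745) (.L 10438)) (.N 291 (.L 9157) (.L 1984)))) (.N 295 (.N 293 (.L 2816) (.N 294 (.L 770) (.L 10306))) (.N 297 (.N 296 (.L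 9287) (.L 6212)) (.N 298 (.L 6086) (.L 13445))))) (.N 306 (.N 302 (.N 300 (.L 2502) (.N 301 (.L 9351) (.L 4866))) (.N 304 (.N 303 (.L 5386) (.L 10251)) (.N 305 (.L 9481) (.L 9809)))) (.N 309 (.N 307 (.L 9862) (.N 308 (.L 8708) (.L 1224))) (.N 311 (.N 310 (.L 0) (.L 6592)) (.N 312 (.L 7426) (.L 4168)))))) (.N 327 (.N 320 (.N 316 (.N 314 (.L 7938) (.N 315 (.L 8064) (.L 10378))) (.N 318 (.N 317 (.L 9038) (.L 7491)) (.N 319 (.L 7502) (.L 6406)))) (.N 323 (.N 321 (.L 6342) (.N 322 (.L 4102) (.L 2694))) (.N 325 (.N 324 (.L 1286) (.L 7040)) (.N 326 (.L 10502) (.L 9480))))) (.N 334 (.N 330 (.N 328 (.L 9303) (.N 329 (.L 9152) (.L 9041))) (.N 332 (.N 331 (.L 9159) (.L 10561)) (.N 333 (.L 6272) (.L 11618)))) (.N 338 (.N 336 (.N 335 (.L 7623) (.L 9034)) (.N 337 (.L 768) (.L 7627))) (.N 340 (.N 339 (.L 10629) (.L 6020)) (.N 341 (.L 2118) (.L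 7945)))))))) (.N 399 (.N 370 (.N 356 (.N 349 (.N 345 (.N 343 (.L 10178) (.N 344 (.L 11024) (.L 11778))) (.N 347 (.N 346 (.L 11790) (.L 12875)) (.N 348 (.L 13084) (.L 13124)))) (.N 352 (.N 350 (.L 8000) (.N 351 (.L 8707) (.L 11402))) (.N 354 (.N 353 (.L 9688) (.L 2248)) (.N 355 (.L 12878) (.L 3912))))) (.N 363 (.N 359 (.N 357 (.L 7497) (.N 358 (.L 10568) (.L 7374))) (.N 361 (.N 360 (.L 7298) (.L 7619)) (.N 362 (.L 7501) (.L 1924)))) (.N 366 (.N 364 (.L 5188) (.N 365 (.L 1733) (.L 9037))) (.N 368 (.N 367 (.L 386) (.L 4354)) (.N 369 (.L 4229) (.L 10591)))))) (.N 384 (.N 377 (.N 373 (.N 371 (.L 7364) (.N 372 (.L 1344) (.L 7432))) (.N 375 (.N 374 (.L 10564) (.L 2122)) (.N 376 (.L 7629) (.L 7620)))) (.N 380 (.N 378 (.L 5770) (.N 379 (.L 10570) (.L 10439))) (.N 382 (.N 381 (.L 7496) (.L 4298)) (.N 383 (.L 7505) (.L 10437))))) (.N 391 (.N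 387 (.N 385 (.L 10591) (.N 386 (.L 12778) (.L 10563))) (.N 389 (.N 388 (.L 7618) (.L 10265)) (.N 390 (.L 7617) (.L 7560)))) (.N 395 (.N 393 (.N 392 (.L 10383) (.L 7182)) (.N 394 (.L 1350) (.L 4675))) (.N 397 (.N 396 (.L 4227) (.L 7628)) (.N 398 (.L 8836) (.L 10496))))))) (.N 427 (.N 413 (.N 406 (.N 402 (.N 400 (.L 10586) (.N 401 (.L 256) (.L 7428))) (.N 404 (.N 403 (.L 9408) (.L 7427)) (.N 405 (.L 10631) (.L 2434)))) (.N 409 (.N 407 (.L 6080) (.N 408 (.L 3014) (.L 12741))) (.N 411 (.N 410 (.L 8323) (.L 5443)) (.N 412 (.L 7553) (.L 12382))))) (.N 420 (.N 416 (.N 414 (.L 4484) (.N 415 (.L 12555) (.L 9024))) (.N 418 (.N 417 (.L 9043) (.L 7616)) (.N 419 (.L 1802) (.L 4424)))) (.N 423 (.N 421 (.L 3846) (.N 422 (.L 9307) (.L 8005))) (.N 425 (.N 424 (.L 9292) (.L 9543)) (.N 426 (.L 3848) (.L 2562)))))) (.N 441 (.N 434 (.N 430 (.N 428 (.L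 8832) (.N 429 (.L 13460) (.L 4488))) (.N 432 (.N 431 (.L 5828) (.L 8009)) (.N 433 (.L 9046) (.L 5636)))) (.N 437 (.N 435 (.L 4422) (.N 436 (.L 5320) (.L 5248))) (.N 439 (.N 438 (.L 6470) (.L 2370)) (.N 440 (.L 9546) (.L 9422))))) (.N 448 (.N 444 (.N 442 (.L 13319) (.N 443 (.L 10564) (.L 6848))) (.N 446 (.N 445 (.L 5376) (.L 9985)) (.N 447 (.L 6474) (.L 4672)))) (.N 452 (.N 450 (.N 449 (.L 10380) (.L 4362)) (.N 451 (.L 1280) (.L 7561))) (.N 454 (.N 453 (.L 2760) (.L 7564)) (.N 455 (.L 4170) (.L 4296)))))))))) (.N 684 (.N 570 (.N 513 (.N 484 (.N 470 (.N 463 (.N 459 (.N 457 (.L 1288) (.N 458 (.L 4290) (.L 4352))) (.N 461 (.N 460 (.L 4226) (.L 4360)) (.N 462 (.L 8067) (.L 7489)))) (.N 466 (.N 464 (.L 9153) (.N 465 (.L 8641) (.L 9857))) (.N 468 (.N 467 (.L 10757) (.L 10766)) (.N 469 (.L 10511) (.L 7562))))) (.N 477 (.N 473 (.N 471 (.L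 2500) (.N 472 (.L 10632) (.L 7424))) (.N 475 (.N 474 (.L 2440) (.L 2432)) (.N 476 (.L 10571) (.L 9291)))) (.N 480 (.N 478 (.L 10758) (.N 479 (.L 10374) (.L 7556))) (.N 482 (.N 481 (.L 10188) (.L 7698)) (.N 483 (.L 2368) (.L 10583)))))) (.N 498 (.N 491 (.N 487 (.N 485 (.L 2504) (.N 486 (.L 7434) (.L 12295))) (.N 489 (.N 488 (.L 8256) (.L 9164)) (.N 490 (.L 13524) (.L 1088)))) (.N 494 (.N 492 (.L 1088) (.N 493 (.L 7503) (.L 5568))) (.N 496 (.N 495 (.L 13748) (.L 13746)) (.N 497 (.L 13748) (.L 1092))))) (.N 505 (.N 501 (.N 499 (.L 2752) (.N 500 (.L 2308) (.L 2624))) (.N 503 (.N 502 (.L 2758) (.L 6082)) (.N 504 (.L 7370) (.L 7488)))) (.N 509 (.N 507 (.N 506 (.L 7623) (.L 8073)) (.N 508 (.L 8580) (.L 9435))) (.N 511 (.N 510 (.L 9414) (.L 11743)) (.N 512 (.L 11722) (.L 12750))))))) (.N 541 (.N 527 (.N 520 (.N 516 (.N 514 (.L 5576) (.N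 515 (.L 5320) (.L 5958))) (.N 518 (.N 517 (.L 5634) (.L 7567)) (.N 519 (.L 9482) (.L 12746)))) (.N 523 (.N 521 (.L 13697) (.N 522 (.L 13699) (.L 13774))) (.N 525 (.N 524 (.L 2950) (.L 1670)) (.N 526 (.L 1862) (.L 1158))))) (.N 534 (.N 530 (.N 528 (.L 4612) (.N 529 (.L 4034) (.L 2054))) (.N 532 (.N 531 (.L 13477) (.L 770)) (.N 533 (.L 1154) (.L 4868)))) (.N 537 (.N 535 (.L 3971) (.N 536 (.L 8769) (.L 10314))) (.N 539 (.N 538 (.L 7881) (.L 11470)) (.N 540 (.L 8259) (.L 7696)))))) (.N 555 (.N 548 (.N 544 (.N 542 (.L 11546) (.N 543 (.L 9042) (.L 5441))) (.N 546 (.N 545 (.L 12425) (.L 5960)) (.N 547 (.L 5766) (.L 4674)))) (.N 551 (.N 549 (.L 10183) (.N 550 (.L 5764) (.L 5826))) (.N 553 (.N 552 (.L 10567) (.L 7633)) (.N 554 (.L 7561) (.L 448))))) (.N 562 (.N 558 (.N 556 (.L 10585) (.N 557 (.L 7362) (.L 6216))) (.N 560 (.N 559 (.L 3588)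 (.L 7624)) (.N 561 (.L 10701) (.L 10694)))) (.N 566 (.N 564 (.N 563 (.L 10638) (.L 9691)) (.N 565 (.L 9937) (.L 7811))) (.N 568 (.N 567 (.L 3968) (.L 10562)) (.N 569 (.L 4480) (.L 2944)))))))) (.N 627 (.N 598 (.N 584 (.N 577 (.N 573 (.N 571 (.L 5126) (.N 572 (.L 3588) (.L 3008))) (.N 575 (.N 574 (.L 7431) (.L 12364)) (.N 576 (.L 7631) (.L 9035)))) (.N 580 (.N 578 (.L 9349) (.N 579 (.L 1352) (.L 2371))) (.N 582 (.N 581 (.L 9675) (.L 10251)) (.N 583 (.L 5830) (.L 128))))) (.N 591 (.N 587 (.N 585 (.L 896) (.N 586 (.L 6024) (.L 10055))) (.N 589 (.N 588 (.L 7554) (.L 3914)) (.N 590 (.L 7488) (.L 10637)))) (.N 594 (.N 592 (.L 9539) (.N 593 (.L 13255) (.L 9559))) (.N 596 (.N 595 (.L 13643) (.L 9156)) (.N 597 (.L 9040) (.L 13654)))))) (.N 612 (.N 605 (.N 601 (.N 599 (.L 7182) (.N 600 (.L 4994) (.L 4936))) (.N 603 (.N 602 (.L 5956) (.L 3850))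 (.N 604 (.L 3334) (.L 4040)))) (.N 608 (.N 606 (.L 13285) (.N 607 (.L 2952) (.L 1282))) (.N 610 (.N 609 (.L 7632) (.L 6530)) (.N 611 (.L 5186) (.L 1476))))) (.N 619 (.N 615 (.N 613 (.L 10756) (.N 614 (.L 6346) (.L 6528))) (.N 617 (.N 616 (.L 3776) (.L 5120)) (.N 618 (.L 10627) (.L 2560)))) (.N 623 (.N 621 (.N 620 (.L 8194) (.L 13475)) (.N 622 (.L 10762) (.L 5192))) (.N 625 (.N 624 (.L 11526) (.L 7494)) (.N 626 (.L 10445) (.L 10693))))))) (.N 655 (.N 641 (.N 634 (.N 630 (.N 628 (.L 13632) (.N 629 (.L 9416) (.L 10447))) (.N 632 (.N 631 (.L 11786) (.L 12682)) (.N 633 (.L 8771) (.L 12293)))) (.N 637 (.N 635 (.L 8129) (.N 636 (.L 12097) (.L 10381))) (.N 639 (.N 638 (.L 5952) (.L 5056)) (.N 640 (.L 13290) (.L 8072))))) (.N 648 (.N 644 (.N 642 (.L 8458) (.N 643 (.L 9870) (.L 10434))) (.N 646 (.N 645 (.L 12480) (.L 2754)) (.N 647 (.L 11590)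 (.L 7627)))) (.N 651 (.N 649 (.L 1412) (.N 650 (.L 5316) (.L 8834))) (.N 653 (.N 652 (.L 8775) (.L 3786)) (.N 654 (.L 11462) (.L 6024)))))) (.N 669 (.N 662 (.N 658 (.N 656 (.L 1354) (.N 657 (.L 1094) (.L 6150))) (.N 660 (.N 659 (.L 6272) (.L 8770)) (.N 661 (.L 13141) (.L 10319)))) (.N 665 (.N 663 (.L 10761) (.N 664 (.L 2628) (.L 5954))) (.N 667 (.N 666 (.L 12430) (.L 10260)) (.N 668 (.L 4548) (.L 10590))))) (.N 676 (.N 672 (.N 670 (.L 7435) (.N 671 (.L 12421) (.L 7630))) (.N 674 (.N 673 (.L 9295) (.L 10266)) (.N 675 (.L 5696) (.L 2564)))) (.N 680 (.N 678 (.N 677 (.L 7944) (.L 1160)) (.N 679 (.L 13685) (.L 3080))) (.N 682 (.N 681 (.L 12743) (.L 10626)) (.N 683 (.L 10624) (.L 10688))))))))) (.N 798 (.N 741 (.N 712 (.N 698 (.N 691 (.N 687 (.N 685 (.L 13747) (.N 686 (.L 8329) (.L 10304))) (.N 689 (.N 688 (.L 7296) (.L 13260)) (.N 690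 (.L 11361) (.L 9158)))) (.N 694 (.N 692 (.L 4225) (.N 693 (.L 8001) (.L 9163))) (.N 696 (.N 695 (.L 11463) (.L 3458)) (.N 697 (.L 9420) (.L 10700))))) (.N 705 (.N 701 (.N 699 (.L 10508) (.N 700 (.L 7943) (.L 13715))) (.N 703 (.N 702 (.L 3074) (.L 10255)) (.N 704 (.L 2442) (.L 13767)))) (.N 708 (.N 706 (.L 3394) (.N 707 (.L 1280) (.L 13683))) (.N 710 (.N 709 (.L 1288) (.L 1222)) (.N 711 (.L 8645) (.L 8769)))))) (.N 726 (.N 719 (.N 715 (.N 713 (.L 9949) (.N 714 (.L 9937) (.L 11353))) (.N 717 (.N 716 (.L 11357) (.L 11343)) (.N 718 (.L 11343) (.L 12035)))) (.N 722 (.N 720 (.L 12110) (.N 721 (.L 12096) (.L 11785))) (.N 724 (.N 723 (.L 12241) (.L 12035)) (.N 725 (.L 12304) (.L 13197))))) (.N 733 (.N 729 (.N 727 (.L 12885) (.N 728 (.L 13139) (.L 13187))) (.N 731 (.N 730 (.L 12943) (.L 13136)) (.N 732 (.L 13129) (.L 13082)))) (.N 737 (.N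 735 (.N 734 (.L 12888) (.L 13193)) (.N 736 (.L 13574) (.L 7499))) (.N 739 (.N 738 (.L 10765) (.L 5252)) (.N 740 (.L 13658) (.L 13644))))))) (.N 769 (.N 755 (.N 748 (.N 744 (.N 742 (.L 6088) (.N 743 (.L 13828) (.L 6214))) (.N 746 (.N 745 (.L 10572) (.L 4810)) (.N 747 (.L 9408) (.L 2182)))) (.N 751 (.N 749 (.L 7170) (.N 750 (.L 9282) (.L 9810))) (.N 753 (.N 752 (.L 9816) (.L 13641)) (.N 754 (.L 7505) (.L 10697))))) (.N 762 (.N 758 (.N 756 (.L 10123) (.N 757 (.L 10316) (.L 11840))) (.N 760 (.N 759 (.L 4166) (.L 6018)) (.N 761 (.L 10579) (.L 10507)))) (.N 765 (.N 763 (.L 2436) (.N 764 (.L 9478) (.L 11856))) (.N 767 (.N 766 (.L 3526) (.L 10371)) (.N 768 (.L 2886) (.L 13689)))))) (.N 783 (.N 776 (.N 772 (.N 770 (.L 1346) (.N 771 (.L 4934) (.L 1537))) (.N 774 (.N 773 (.L 4677) (.L 13687)) (.N 775 (.L 5128) (.L 9100)))) (.N 779 (.N 777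 (.L 10576) (.N 778 (.L 10497) (.L 10371))) (.N 781 (.N 780 (.L 1860) (.L 9044)) (.N 782 (.L 7943) (.L 2694))))) (.N 790 (.N 786 (.N 784 (.L 1418) (.N 785 (.L 7172) (.L 1418))) (.N 788 (.N 787 (.L 12238) (.L 1866)) (.N 789 (.L 2242) (.L 1668)))) (.N 794 (.N 792 (.N 791 (.L 9477) (.L 10266)) (.N 793 (.L 13001) (.L 5002))) (.N 796 (.N 795 (.L 4938) (.L 4096)) (.N 797 (.L 2050) (.L 10378)))))))) (.N 855 (.N 826 (.N 812 (.N 805 (.N 801 (.N 799 (.L 7426) (.N 800 (.L 12550) (.L 12492))) (.N 803 (.N 802 (.L 12548) (.L 12550)) (.N 804 (.L 13588) (.L 10176)))) (.N 808 (.N 806 (.L 13287) (.N 807 (.L 1482) (.L 1539))) (.N 810 (.N 809 (.L 4546) (.L 5192)) (.N 811 (.L 6344) (.L 4992))))) (.N 819 (.N 815 (.N 813 (.L 2632) (.N 814 (.L 6088) (.L 9864))) (.N 817 (.N 816 (.L 10264) (.L 13276)) (.N 818 (.L 7439) (.L 13635)))) (.N 822 (.N 820 (.L 7040)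 (.N 821 (.L 9547) (.L 12367))) (.N 824 (.N 823 (.L 13679) (.L 6464)) (.N 825 (.L 7499) (.L 1600)))))) (.N 840 (.N 833 (.N 829 (.N 827 (.L 2630) (.N 828 (.L 9484) (.L 13579))) (.N 831 (.N 830 (.L 4224) (.L 576)) (.N 832 (.L 10692) (.L 9306)))) (.N 836 (.N 834 (.L 13340) (.N 835 (.L 10574) (.L 9289))) (.N 838 (.N 837 (.L 9294) (.L 7425)) (.N 839 (.L 10587) (.L 1024))))) (.N 847 (.N 843 (.N 841 (.L 3586) (.N 842 (.L 2120) (.L 3140))) (.N 845 (.N 844 (.L 3650) (.L 3712)) (.N 846 (.L 3076) (.L 3395)))) (.N 851 (.N 849 (.N 848 (.L 5384) (.L 10589)) (.N 850 (.L 6400) (.L 5380))) (.N 853 (.N 852 (.L 6218) (.L 6208)) (.N 854 (.L 5824) (.L 7556))))))) (.N 883 (.N 869 (.N 862 (.N 858 (.N 856 (.L 7813) (.N 857 (.L 7625) (.L 10436))) (.N 860 (.N 859 (.L 5638) (.L 7436)) (.N 861 (.L 10634) (.L 13717)))) (.N 865 (.N 863 (.L 3530) (.N 864 (.L 5699)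 (.L 13721))) (.N 867 (.N 866 (.L 1408) (.L 10058)) (.N 868 (.L 3584) (.L 5632))))) (.N 876 (.N 872 (.N 870 (.L 7370) (.N 871 (.L 3266) (.L 12107))) (.N 874 (.N 873 (.L 8003) (.L 8326)) (.N 875 (.L 10447) (.L 1218)))) (.N 879 (.N 877 (.L 13684) (.N 878 (.L 9281) (.L 8778))) (.N 881 (.N 880 (.L 2116) (.L 5382)) (.N 882 (.L 5378) (.L 8522)))))) (.N 897 (.N 890 (.N 886 (.N 884 (.L 13350) (.N 885 (.L 7816) (.L 8517))) (.N 888 (.N 887 (.L 8581) (.L 9160)) (.N 889 (.L 7368) (.L 7563)))) (.N 893 (.N 891 (.L 8586) (.N 892 (.L 8522) (.L 5514))) (.N 895 (.N 894 (.L 5384) (.L 5378)) (.N 896 (.L 5830) (.L 6402))))) (.N 904 (.N 900 (.N 898 (.L 5376) (.N 899 (.L 3589) (.L 7811))) (.N 902 (.N 901 (.L 6410) (.L 3201)) (.N 903 (.L 3722) (.L 898)))) (.N 908 (.N 906 (.N 905 (.L 7560) (.L 8775)) (.N 907 (.L 10506) (.L 3460))) (.N 910 (.N 909 (.L 3270)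 (.L 5248)) (.N 911 (.L 6662) (.L 13734))))))))))) (.N 1368 (.N 1140 (.N 1026 (.N 969 (.N 940 (.N 926 (.N 919 (.N 915 (.N 913 (.L 5890) (.N 914 (.L 12303) (.L 7563))) (.N 917 (.N 916 (.L 12811) (.L 5254)) (.N 918 (.L 10580) (.L 11473)))) (.N 922 (.N 920 (.L 384) (.N 921 (.L 3716) (.L 4225))) (.N 924 (.N 923 (.L 3142) (.L 6274)) (.N 925 (.L 13729) (.L 6336))))) (.N 933 (.N 929 (.N 927 (.L 3466) (.N 928 (.L 3082) (.L 5698))) (.N 931 (.N 930 (.L 3524) (.L 3393)) (.N 932 (.L 130) (.L 13750)))) (.N 936 (.N 934 (.L 3272) (.N 935 (.L 3274) (.L 3018))) (.N 938 (.N 937 (.L 3146) (.L 1095)) (.N 939 (.L 13754) (.L 10753)))))) (.N 954 (.N 947 (.N 943 (.N 941 (.L 13706) (.N 942 (.L 10052) (.L 13749))) (.N 945 (.N 944 (.L 10435) (.L 10639)) (.N 946 (.L 8643) (.L 7552)))) (.N 950 (.N 948 (.L 13840) (.N 949 (.L 8523) (.L 10181))) (.N 952 (.N 951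 (.L 12776) (.L 8518)) (.N 953 (.L 3203) (.L 4104))))) (.N 961 (.N 957 (.N 955 (.L 10243) (.N 956 (.L 10379) (.L 7618))) (.N 959 (.N 958 (.L 6210) (.L 10635)) (.N 960 (.L 12549) (.L 13723)))) (.N 965 (.N 963 (.N 962 (.L 9095) (.L 10566)) (.N 964 (.L 10060) (.L 3587))) (.N 967 (.N 966 (.L 10625) (.L 5445)) (.N 968 (.L 4038) (.L 3202))))))) (.N 997 (.N 983 (.N 976 (.N 972 (.N 970 (.L 5828) (.N 971 (.L 8132) (.L 10573))) (.N 974 (.N 973 (.L 8262) (.L 12290)) (.N 975 (.L 4362) (.L 10443)))) (.N 979 (.N 977 (.L 12443) (.N 978 (.L 13338) (.L 2434))) (.N 981 (.N 980 (.L 2244) (.L 10244)) (.N 982 (.L 7498) (.L 10242))))) (.N 990 (.N 986 (.N 984 (.L 3782) (.N 985 (.L 13188) (.L 1856))) (.N 988 (.N 987 (.L 10262) (.L 2304)) (.N 989 (.L 7555) (.L 6026)))) (.N 993 (.N 991 (.L 13698) (.N 992 (.L 4482) (.L 8198))) (.N 995 (.N 994 (.L 9229) (.L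 11740)) (.N 996 (.L 10261) (.L 5444)))))) (.N 1011 (.N 1004 (.N 1000 (.N 998 (.L 10582) (.N 999 (.L 5318) (.L 10308))) (.N 1002 (.N 1001 (.L 5250) (.L 11612)) (.N 1003 (.L 13701) (.L 2498)))) (.N 1007 (.N 1005 (.L 10636) (.N 1006 (.L 7565) (.L 6090))) (.N 1009 (.N 1008 (.L 3016) (.L 9946)) (.N 1010 (.L 13776) (.L 13722))))) (.N 1018 (.N 1014 (.N 1012 (.L 320) (.N 1013 (.L 256) (.L 3848))) (.N 1016 (.N 1015 (.L 1216) (.L 6338)) (.N 1017 (.L 3202) (.L 11554)))) (.N 1022 (.N 1020 (.N 1019 (.L 10262) (.L 7810)) (.N 1021 (.L 12491) (.L 13751))) (.N 1024 (.N 1023 (.L 3648) (.L 1097)) (.N 1025 (.L 5506) (.L 5258)))))))) (.N 1083 (.N 1054 (.N 1040 (.N 1033 (.N 1029 (.N 1027 (.L 3780) (.N 1028 (.L 3908) (.L 3396))) (.N 1031 (.N 1030 (.L 10245) (.L 13707)) (.N 1032 (.L 10509) (.L 12814)))) (.N 1036 (.N 1034 (.L 7619) (.N 1035 (.L 64) (.L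 1093))) (.N 1038 (.N 1037 (.L 2114) (.L 6408)) (.N 1039 (.L 10441) (.L 7430))))) (.N 1047 (.N 1043 (.N 1041 (.L 5574) (.N 1042 (.L 9029) (.L 8257))) (.N 1045 (.N 1044 (.L 10440) (.L 9036)) (.N 1046 (.L 10584) (.L 13732)))) (.N 1050 (.N 1048 (.L 13204) (.N 1049 (.L 12233) (.L 12546))) (.N 1052 (.N 1051 (.L 6472) (.L 7809)) (.N 1053 (.L 2563) (.L 9671)))))) (.N 1068 (.N 1061 (.N 1057 (.N 1055 (.L 10695) (.N 1056 (.L 5510) (.L 7750))) (.N 1059 (.N 1058 (.L 10754) (.L 13257)) (.N 1060 (.L 2698) (.L 2634)))) (.N 1064 (.N 1062 (.L 10633) (.N 1063 (.L 8137) (.L 9951))) (.N 1066 (.N 1065 (.L 8774) (.L 13191)) (.N 1067 (.L 12307) (.L 7812))))) (.N 1075 (.N 1071 (.N 1069 (.L 8068) (.N 1070 (.L 8587) (.L 7500))) (.N 1073 (.N 1072 (.L 12305) (.L 10698)) (.N 1074 (.L 13747) (.L 9283)))) (.N 1079 (.N 1077 (.N 1076 (.L 11610) (.L 13350)) (.N 1078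 (.L 13711) (.L 13736))) (.N 1081 (.N 1080 (.L 3654) (.L 3205)) (.N 1082 (.L 4098) (.L 9039))))))) (.N 1111 (.N 1097 (.N 1090 (.N 1086 (.N 1084 (.L 7559) (.N 1085 (.L 10249) (.L 10268))) (.N 1088 (.N 1087 (.L 1090) (.L 12739)) (.N 1089 (.L 5570) (.L 10432)))) (.N 1093 (.N 1091 (.L 13769) (.N 1092 (.L 8390) (.L 10370))) (.N 1095 (.N 1094 (.L 9155) (.L 13334)) (.N 1096 (.L 1800) (.L 6144))))) (.N 1104 (.N 1100 (.N 1098 (.L 13193) (.N 1099 (.L 11340) (.L 2240))) (.N 1102 (.N 1101 (.L 7752) (.L 9417)) (.N 1103 (.L 9562) (.L 13490)))) (.N 1107 (.N 1105 (.L 10690) (.N 1106 (.L 8324) (.L 7686))) (.N 1109 (.N 1108 (.L 8006) (.L 3332)) (.N 1110 (.L 1090) (.L 3078)))))) (.N 1125 (.N 1118 (.N 1114 (.N 1112 (.L 11471) (.N 1113 (.L 8710) (.L 13477))) (.N 1116 (.N 1115 (.L 704) (.L 9555)) (.N 1117 (.L 12040) (.L 9475)))) (.N 1121 (.N 1119 (.L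 10256) (.N 1120 (.L 12381) (.L 8260))) (.N 1123 (.N 1122 (.L 8768) (.L 4424)) (.N 1124 (.L 7569) (.L 6146))))) (.N 1132 (.N 1128 (.N 1126 (.L 3336) (.N 1127 (.L 11713) (.L 9996))) (.N 1130 (.N 1129 (.L 8325) (.L 8320)) (.N 1131 (.L 8327) (.L 9556)))) (.N 1136 (.N 1134 (.N 1133 (.L 3972) (.L 8263)) (.N 1135 (.L 7433) (.L 10309))) (.N 1138 (.N 1137 (.L 1478) (.L 4228)) (.N 1139 (.L 4486) (.L 2176))))))))) (.N 1254 (.N 1197 (.N 1168 (.N 1154 (.N 1147 (.N 1143 (.N 1141 (.L 11207) (.N 1142 (.L 10318) (.L 8265))) (.N 1145 (.N 1144 (.L 2246) (.L 13283)) (.N 1146 (.L 9482) (.L 1602)))) (.N 1150 (.N 1148 (.L 1536) (.N 1149 (.L 4426) (.L 9863))) (.N 1152 (.N 1151 (.L 3072) (.L 6472)) (.N 1153 (.L 9030) (.L 7936))))) (.N 1161 (.N 1157 (.N 1155 (.L 7808) (.N 1156 (.L 10587) (.L 9286))) (.N 1159 (.N 1158 (.L 10254) (.L 1986)) (.N 1160 (.L 5122)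 (.L 10270)))) (.N 1164 (.N 1162 (.L 3464) (.N 1163 (.L 10113) (.L 13447))) (.N 1166 (.N 1165 (.L 9556) (.L 7440)) (.N 1167 (.L 8264) (.L 11522)))))) (.N 1182 (.N 1175 (.N 1171 (.N 1169 (.L 7680) (.N 1170 (.L 7429) (.L 1410))) (.N 1173 (.N 1172 (.L 8779) (.L 8709)) (.N 1174 (.L 11845) (.L 4552)))) (.N 1178 (.N 1176 (.L 4486) (.N 1177 (.L 13443) (.L 2506))) (.N 1180 (.N 1179 (.L 2688) (.L 11843)) (.N 1181 (.L 1922) (.L 12231))))) (.N 1189 (.N 1185 (.N 1183 (.L 9557) (.N 1184 (.L 9990) (.L 2373))) (.N 1187 (.N 1186 (.L 10317) (.L 3850)) (.N 1188 (.L 9031) (.L 6344)))) (.N 1193 (.N 1191 (.N 1190 (.L 4106) (.L 4356)) (.N 1192 (.L 12431) (.L 11214))) (.N 1195 (.N 1194 (.L 10562) (.L 7626)) (.N 1196 (.L 9989) (.L 10125))))))) (.N 1225 (.N 1211 (.N 1204 (.N 1200 (.N 1198 (.L 4869) (.N 1199 (.L 8835) (.L 8773))) (.N 1202 (.N 1201 (.L 3969)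 (.L 1290)) (.N 1203 (.L 8070) (.L 8193)))) (.N 1207 (.N 1205 (.L 9220) (.N 1206 (.L 9161) (.L 11339))) (.N 1209 (.N 1208 (.L 2826) (.L 13830)) (.N 1210 (.L 9742) (.L 1728))))) (.N 1218 (.N 1214 (.N 1212 (.L 4544) (.N 1213 (.L 13456) (.L 12432))) (.N 1216 (.N 1215 (.L 5768) (.L 12369)) (.N 1217 (.L 10305) (.L 4930)))) (.N 1221 (.N 1219 (.L 7625) (.N 1220 (.L 2438) (.L 9165))) (.N 1223 (.N 1222 (.L 9353) (.L 11520)) (.N 1224 (.L 1416) (.L 4800)))))) (.N 1239 (.N 1232 (.N 1228 (.N 1226 (.L 9479) (.N 1227 (.L 10637) (.L 9485))) (.N 1230 (.N 1229 (.L 9735) (.L 1731)) (.N 1231 (.L 12389) (.L 7495)))) (.N 1235 (.N 1233 (.L 3969) (.N 1234 (.L 7372) (.L 7633))) (.N 1237 (.N 1236 (.L 12892) (.L 2312)) (.N 1238 (.L 9802) (.L 10377))))) (.N 1246 (.N 1242 (.N 1240 (.L 6466) (.N 1241 (.L 13713) (.L 9280))) (.N 1244 (.N 1243 (.L 9418) (.L 10433))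 (.N 1245 (.L 8200) (.L 6720)))) (.N 1250 (.N 1248 (.N 1247 (.L 10439) (.L 4804)) (.N 1249 (.L 7234) (.L 6150))) (.N 1252 (.N 1251 (.L 8328) (.L 8134)) (.N 1253 (.L 10752) (.L 11584)))))))) (.N 1311 (.N 1282 (.N 1268 (.N 1261 (.N 1257 (.N 1255 (.L 12368) (.N 1256 (.L 5578) (.L 10313))) (.N 1259 (.N 1258 (.L 9546) (.L 9027)) (.N 1260 (.L 11354) (.L 3652)))) (.N 1264 (.N 1262 (.L 1414) (.N 1263 (.L 13458) (.L 10500))) (.N 1266 (.N 1265 (.L 13264) (.L 4416)) (.N 1267 (.L 11336) (.L 9869))))) (.N 1275 (.N 1271 (.N 1269 (.L 10246) (.N 1270 (.L 4042) (.L 9091))) (.N 1273 (.N 1272 (.L 8714) (.L 9432)) (.N 1274 (.L 10315) (.L 10501)))) (.N 1278 (.N 1276 (.L 6216) (.N 1277 (.L 13685) (.L 3906))) (.N 1280 (.N 1279 (.L 5130) (.L 10114)) (.N 1281 (.L 9427) (.L 11661)))))) (.N 1296 (.N 1289 (.N 1285 (.N 1283 (.L 9165) (.N 1284 (.L 7501) (.L 13447)))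 (.N 1287 (.N 1286 (.L 10630) (.L 13490)) (.N 1288 (.L 8835) (.L 12442)))) (.N 1292 (.N 1290 (.L 9548) (.N 1291 (.L 11725) (.L 5834))) (.N 1294 (.N 1293 (.L 13657) (.L 13672)) (.N 1295 (.L 10380) (.L 12483))))) (.N 1303 (.N 1299 (.N 1297 (.L 12486) (.N 1298 (.L 10444) (.L 10628))) (.N 1301 (.N 1300 (.L 13593) (.L 10767)) (.N 1302 (.L 9677) (.L 12942)))) (.N 1307 (.N 1305 (.N 1304 (.L 12868) (.L 7178)) (.N 1306 (.L 11524) (.L 11461))) (.N 1309 (.N 1308 (.L 13009) (.L 13379)) (.N 1310 (.L 7180) (.L 12891))))))) (.N 1339 (.N 1325 (.N 1318 (.N 1314 (.N 1312 (.L 9153) (.N 1313 (.L 2314) (.L 12051))) (.N 1316 (.N 1315 (.L 9551) (.L 13077)) (.N 1317 (.L 12379) (.L 13281)))) (.N 1321 (.N 1319 (.L 5126) (.N 1320 (.L 13398) (.L 13646))) (.N 1323 (.N 1322 (.L 6850) (.L 10259)) (.N 1324 (.L 13515) (.L 7940))))) (.N 1332 (.N 1328 (.N 1326 (.L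 9027) (.N 1327 (.L 13098) (.L 7630))) (.N 1330 (.N 1329 (.L 9564) (.L 4550)) (.N 1331 (.L 4038) (.L 7168)))) (.N 1335 (.N 1333 (.L 5512) (.N 1334 (.L 8451) (.L 11907))) (.N 1337 (.N 1336 (.L 7616) (.L 7493)) (.N 1338 (.L 8514) (.L 7815)))))) (.N 1353 (.N 1346 (.N 1342 (.N 1340 (.L 7628) (.N 1341 (.L 8322) (.L 4554))) (.N 1344 (.N 1343 (.L 4744) (.L 7429)) (.N 1345 (.L 10688) (.L 2824)))) (.N 1349 (.N 1347 (.L 7174) (.N 1348 (.L 13677) (.L 13202))) (.N 1351 (.N 1350 (.L 10269) (.L 10061)) (.N 1352 (.L 1541) (.L 1792))))) (.N 1360 (.N 1356 (.N 1354 (.L 7432) (.N 1355 (.L 4738) (.L 6086))) (.N 1358 (.N 1357 (.L 2632) (.L 12229)) (.N 1359 (.L 13266) (.L 9865)))) (.N 1364 (.N 1362 (.N 1361 (.L 10373) (.L 9806)) (.N 1363 (.L 9098) (.L 13312))) (.N 1366 (.N 1365 (.L 11338) (.L 2250)) (.N 1367 (.L 6726) (.L 6148)))))))))) (.N 1596 (.N 1482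 (.N 1425 (.N 1396 (.N 1382 (.N 1375 (.N 1371 (.N 1369 (.L 1160) (.N 1370 (.L 1154) (.L 12434))) (.N 1373 (.N 1372 (.L 10177) (.L 13675)) (.N 1374 (.L 7939) (.L 12736)))) (.N 1378 (.N 1376 (.L 13013) (.N 1377 (.L 1796) (.L 3528))) (.N 1380 (.N 1379 (.L 13839) (.L 1921)) (.N 1381 (.L 1540) (.L 9804))))) (.N 1389 (.N 1385 (.N 1383 (.L 9093) (.N 1384 (.L 12392) (.L 3392))) (.N 1387 (.N 1386 (.L 4746) (.L 11548)) (.N 1388 (.L 1864) (.L 192)))) (.N 1392 (.N 1390 (.L 1155) (.N 1391 (.L 7621) (.L 4164))) (.N 1394 (.N 1393 (.L 6152) (.L 7489)) (.N 1395 (.L 66) (.L 2498)))))) (.N 1410 (.N 1403 (.N 1399 (.N 1397 (.L 9870) (.N 1398 (.L 8715) (.L 10311))) (.N 1401 (.N 1400 (.L 8321) (.L 10372)) (.N 1402 (.L 5190) (.L 1026)))) (.N 1406 (.N 1404 (.L 2948) (.N 1405 (.L 1348) (.L 1794))) (.N 1408 (.N 1407 (.L 8642) (.L 4674)) (.N 1409 (.L 4677)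 (.L 6154))))) (.N 1417 (.N 1413 (.N 1411 (.L 512) (.N 1412 (.L 11586) (.L 12428))) (.N 1415 (.N 1414 (.L 5956) (.L 8833)) (.N 1416 (.L 1666) (.L 1348)))) (.N 1421 (.N 1419 (.N 1418 (.L 13841) (.L 11544)) (.N 1420 (.L 7873) (.L 13634))) (.N 1423 (.N 1422 (.L 1792) (.L 1540)) (.N 1424 (.L 8772) (.L 13652))))))) (.N 1453 (.N 1439 (.N 1432 (.N 1428 (.N 1426 (.L 6592) (.N 1427 (.L 1732) (.L 13691))) (.N 1430 (.N 1429 (.L 1410) (.L 13680)) (.N 1431 (.L 2369) (.L 13752)))) (.N 1435 (.N 1433 (.L 3718) (.N 1434 (.L 5442) (.L 1094))) (.N 1437 (.N 1436 (.L 4032) (.L 8578)) (.N 1438 (.L 4608) (.L 4865))))) (.N 1446 (.N 1442 (.N 1440 (.L 8452) (.N 1441 (.L 4550) (.L 13272))) (.N 1444 (.N 1443 (.L 1920) (.L 2946)) (.N 1445 (.L 2) (.L 5701)))) (.N 1449 (.N 1447 (.L 10634) (.N 1448 (.L 2690) (.L 1480))) (.N 1451 (.N 1450 (.L 1729) (.L 5642)) (.N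 1452 (.L 13645) (.L 2178)))))) (.N 1467 (.N 1460 (.N 1456 (.N 1454 (.L 7441) (.N 1455 (.L 12109) (.L 11337))) (.N 1458 (.N 1457 (.L 3520) (.L 4290)) (.N 1459 (.L 4160) (.L 5834)))) (.N 1463 (.N 1461 (.L 5698) (.N 1462 (.L 12485) (.L 13521))) (.N 1465 (.N 1464 (.L 1092) (.L 3906)) (.N 1466 (.L 12482) (.L 3782))))) (.N 1474 (.N 1470 (.N 1468 (.L 13440) (.N 1469 (.L 7435) (.L 10241))) (.N 1472 (.N 1471 (.L 11548) (.L 7437)) (.N 1473 (.L 2058) (.L 2696)))) (.N 1478 (.N 1476 (.N 1475 (.L 1538) (.L 1798)) (.N 1477 (.L 1729) (.L 3780))) (.N 1480 (.N 1479 (.L 1990) (.L 10628)) (.N 1481 (.L 2954) (.L 8649)))))))) (.N 1539 (.N 1510 (.N 1496 (.N 1489 (.N 1485 (.N 1483 (.L 9483) (.N 1484 (.L 9476) (.L 13259))) (.N 1487 (.N 1486 (.L 13099) (.L 7875)) (.N 1488 (.L 10568) (.L 578)))) (.N 1492 (.N 1490 (.L 4996) (.N 1491 (.L 4036) (.L 13687)))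 (.N 1494 (.N 1493 (.L 13638) (.L 10368)) (.N 1495 (.L 960) (.L 1606))))) (.N 1503 (.N 1499 (.N 1497 (.L 7491) (.N 1498 (.L 3204) (.L 10189))) (.N 1501 (.N 1500 (.L 13642) (.L 10258)) (.N 1502 (.L 13647) (.L 10503)))) (.N 1506 (.N 1504 (.L 10369) (.N 1505 (.L 13744) (.L 10267))) (.N 1508 (.N 1507 (.L 13771) (.L 10442)) (.N 1509 (.L 13720) (.L 8199)))))) (.N 1524 (.N 1517 (.N 1513 (.N 1511 (.L 12548) (.N 1512 (.L 7746) (.L 8069))) (.N 1515 (.N 1514 (.L 2565) (.L 2882)) (.N 1516 (.L 5760) (.L 11332)))) (.N 1520 (.N 1518 (.L 8004) (.N 1519 (.L 13647) (.L 13633))) (.N 1522 (.N 1521 (.L 10579) (.L 13836)) (.N 1523 (.L 7374) (.L 10764))))) (.N 1531 (.N 1527 (.N 1525 (.L 13648) (.N 1526 (.L 5058) (.L 5888))) (.N 1529 (.N 1528 (.L 4867) (.L 4802)) (.N 1530 (.L 5952) (.L 514)))) (.N 1535 (.N 1533 (.N 1532 (.L 10120) (.L 1925)) (.N 1534 (.L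 5512) (.L 4736))) (.N 1537 (.N 1536 (.L 2880) (.L 12292)) (.N 1538 (.L 4356) (.L 8008))))))) (.N 1567 (.N 1553 (.N 1546 (.N 1542 (.N 1540 (.L 2048) (.N 1541 (.L 10759) (.L 4932))) (.N 1544 (.N 1543 (.L 4864) (.L 13662)) (.N 1545 (.L 7749) (.L 7436)))) (.N 1549 (.N 1547 (.L 12763) (.N 1548 (.L 13719) (.L 6152))) (.N 1551 (.N 1550 (.L 1988) (.L 13504)) (.N 1552 (.L 13659) (.L 4548))))) (.N 1560 (.N 1556 (.N 1554 (.L 8836) (.N 1555 (.L 10053) (.L 11594))) (.N 1558 (.N 1557 (.L 12235) (.L 12046)) (.N 1559 (.L 12808) (.L 13505)))) (.N 1563 (.N 1561 (.L 10377) (.N 1562 (.L 9553) (.L 5700))) (.N 1565 (.N 1564 (.L 5770) (.L 13775)) (.N 1566 (.L 7490) (.L 8711)))))) (.N 1581 (.N 1574 (.N 1570 (.N 1568 (.L 9350) (.N 1569 (.L 9154) (.L 9694))) (.N 1572 (.N 1571 (.L 10632) (.L 10689)) (.N 1573 (.L 10574) (.L 10691)))) (.N 1577 (.N 1575 (.L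 11530) (.N 1576 (.L 11546) (.L 11610))) (.N 1579 (.N 1578 (.L 11393) (.L 12163)) (.N 1580 (.L 12174) (.L 12302))))) (.N 1588 (.N 1584 (.N 1582 (.L 13137) (.N 1583 (.L 13127) (.L 12751))) (.N 1586 (.N 1585 (.L 13572) (.L 13529)) (.N 1587 (.L 13510) (.L 9419)))) (.N 1592 (.N 1590 (.N 1589 (.L 10754) (.L 11588)) (.N 1591 (.L 9288) (.L 11550))) (.N 1594 (.N 1593 (.L 13082) (.L 12815)) (.N 1595 (.L 13351) (.L 13582))))))))) (.N 1710 (.N 1653 (.N 1624 (.N 1610 (.N 1603 (.N 1599 (.N 1597 (.L 13668) (.N 1598 (.L 11978) (.L 13069))) (.N 1601 (.N 1600 (.L 13472) (.L 9813)) (.N 1602 (.L 10444) (.L 10445)))) (.N 1606 (.N 1604 (.L 13763) (.N 1605 (.L 9344) (.L 9938))) (.N 1608 (.N 1607 (.L 13122) (.L 13392)) (.N 1609 (.L 13571) (.L 13588))))) (.N 1617 (.N 1613 (.N 1611 (.L 9690) (.N 1612 (.L 13739) (.L 3720))) (.N 1615 (.N 1614 (.L 13640) (.L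 13743)) (.N 1616 (.L 12773) (.L 2884)))) (.N 1620 (.N 1618 (.L 13714) (.N 1619 (.L 11971) (.L 12820))) (.N 1622 (.N 1621 (.L 13349) (.L 13357)) (.N 1623 (.L 13735) (.L 12383)))))) (.N 1638 (.N 1631 (.N 1627 (.N 1625 (.L 13385) (.N 1626 (.L 4610) (.L 5184))) (.N 1629 (.N 1628 (.L 9033) (.L 1988)) (.N 1630 (.L 9550) (.L 9993)))) (.N 1634 (.N 1632 (.L 8323) (.N 1633 (.L 9989) (.L 1923))) (.N 1636 (.N 1635 (.L 9093) (.L 1994)) (.N 1637 (.L 1161) (.L 7497))))) (.N 1645 (.N 1641 (.N 1639 (.L 7747) (.N 1640 (.L 11616) (.L 9088))) (.N 1643 (.N 1642 (.L 1474) (.L 2056)) (.N 1644 (.L 13458) (.L 3264)))) (.N 1649 (.N 1647 (.N 1646 (.L 9413) (.L 7748)) (.N 1648 (.L 8265) (.L 9679))) (.N 1651 (.N 1650 (.L 12036) (.L 7940)) (.N 1652 (.L 3136) (.L 7744))))))) (.N 1681 (.N 1667 (.N 1660 (.N 1656 (.N 1654 (.L 4928) (.N 1655 (.L 10185) (.L 12433)))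 (.N 1658 (.N 1657 (.L 4742) (.L 10116)) (.N 1659 (.L 10504) (.L 12816)))) (.N 1663 (.N 1661 (.L 5312) (.N 1662 (.L 9861) (.L 9100))) (.N 1665 (.N 1664 (.L 7878) (.L 4806)) (.N 1666 (.L 3973) (.L 9814))))) (.N 1674 (.N 1670 (.N 1668 (.L 12557) (.N 1669 (.L 4418) (.L 706))) (.N 1672 (.N 1671 (.L 3012) (.L 258)) (.N 1673 (.L 3656) (.L 3082)))) (.N 1677 (.N 1675 (.L 9553) (.N 1676 (.L 8456) (.L 12632))) (.N 1679 (.N 1678 (.L 2114) (.L 9428)) (.N 1680 (.L 11919) (.L 9988)))))) (.N 1695 (.N 1688 (.N 1684 (.N 1682 (.L 9472) (.N 1683 (.L 3330) (.L 1156))) (.N 1686 (.N 1685 (.L 9541) (.L 2561)) (.N 1687 (.L 4614) (.L 9545)))) (.N 1691 (.N 1689 (.L 13316) (.N 1690 (.L 8261) (.L 9539))) (.N 1693 (.N 1692 (.L 2052) (.L 13833)) (.N 1694 (.L 5440) (.L 9549))))) (.N 1702 (.N 1698 (.N 1696 (.L 13718) (.N 1697 (.L 8133) (.L 12455))) (.N 1700 (.N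 1699 (.L 10580) (.L 5768)) (.N 1701 (.L 8519) (.L 8512)))) (.N 1706 (.N 1704 (.N 1703 (.L 8650) (.L 13671)) (.N 1705 (.L 12489) (.L 12553))) (.N 1708 (.N 1707 (.L 10242) (.L 9737)) (.N 1709 (.L 4808) (.L 12306)))))))) (.N 1767 (.N 1738 (.N 1724 (.N 1717 (.N 1713 (.N 1711 (.L 8640) (.N 1712 (.L 9536) (.L 2248))) (.N 1715 (.N 1714 (.L 13704) (.L 8705)) (.N 1716 (.L 11211) (.L 8258)))) (.N 1720 (.N 1718 (.L 8131) (.N 1719 (.L 9868) (.L 13354))) (.N 1722 (.N 1721 (.L 13726) (.L 13730)) (.N 1723 (.L 1354) (.L 7176))))) (.N 1731 (.N 1727 (.N 1725 (.L 1157) (.N 1726 (.L 8454) (.L 7936))) (.N 1729 (.N 1728 (.L 13686) (.L 12765)) (.N 1730 (.L 7425) (.L 5696)))) (.N 1734 (.N 1732 (.L 11781) (.N 1733 (.L 12928) (.L 9998))) (.N 1736 (.N 1735 (.L 9994) (.L 12740)) (.N 1737 (.L 5962) (.L 13531)))))) (.N 1752 (.N 1745 (.N 1741 (.N 1739 (.L 9552)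 (.N 1740 (.L 13720) (.L 12388))) (.N 1743 (.N 1742 (.L 9089) (.L 1798)) (.N 1744 (.L 1858) (.L 9426)))) (.N 1748 (.N 1746 (.L 13753) (.N 1747 (.L 2561) (.L 1604))) (.N 1750 (.N 1749 (.L 10581) (.L 12390)) (.N 1751 (.L 13716) (.L 9856))))) (.N 1759 (.N 1755 (.N 1753 (.L 12423) (.N 1754 (.L 12484) (.L 9555))) (.N 1757 (.N 1756 (.L 10588) (.L 3587)) (.N 1758 (.L 12457) (.L 5762)))) (.N 1763 (.N 1761 (.N 1760 (.L 12384) (.L 8513)) (.N 1762 (.L 13725) (.L 8002))) (.N 1765 (.N 1764 (.L 9558) (.L 13649)) (.N 1766 (.L 9285) (.L 12451))))))) (.N 1795 (.N 1781 (.N 1774 (.N 1770 (.N 1768 (.L 13737) (.N 1769 (.L 13696) (.L 10264))) (.N 1772 (.N 1771 (.L 9995) (.L 12441)) (.N 1773 (.L 3522) (.L 8712)))) (.N 1777 (.N 1775 (.L 12452) (.N 1776 (.L 12363) (.L 13639))) (.N 1779 (.N 1778 (.L 10118) (.L 13321)) (.N 1780 (.L 8644) (.L 12802))))) (.N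 1788 (.N 1784 (.N 1782 (.L 9094) (.N 1783 (.L 322) (.L 5000))) (.N 1786 (.N 1785 (.L 1674) (.L 11275)) (.N 1787 (.L 13721) (.L 13718)))) (.N 1791 (.N 1789 (.L 13719) (.N 1790 (.L 9871) (.L 12167))) (.N 1793 (.N 1792 (.L 13279) (.L 13483)) (.N 1794 (.L 10697) (.L 9999)))))) (.N 1809 (.N 1802 (.N 1798 (.N 1796 (.L 2890) (.N 1797 (.L 2184) (.L 9561))) (.N 1800 (.N 1799 (.L 9560) (.L 9678)) (.N 1801 (.L 5314) (.L 4162)))) (.N 1805 (.N 1803 (.L 13766) (.N 1804 (.L 10702) (.L 13393))) (.N 1807 (.N 1806 (.L 8646) (.L 9859)) (.N 1808 (.L 13734) (.L 9431))))) (.N 1816 (.N 1812 (.N 1810 (.L 10187) (.N 1811 (.L 13527) (.L 13336))) (.N 1814 (.N 1813 (.L 10575) (.L 13517)) (.N 1815 (.L 10263) (.L 12448)))) (.N 1820 (.N 1818 (.N 1817 (.L 13829) (.L 12544)) (.N 1819 (.L 10755) (.L 10179))) (.N 1822 (.N 1821 (.L 9669) (.L 9039)) (.N 1823 (.L 9992)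 (.L 13688))))))))))))

noncomputable def tB : Tr := (.N 87 (.N 43 (.N 21 (.N 10 (.N 5 (.N 2 (.N 1 (.L 6539) (.L 194)) (.N 3 (.L 448) (.N 4 (.L 576) (.L 512)))) (.N 7 (.N 6 (.L 839) (.L 4160)) (.N 8 (.L 4032) (.N 9 (.L 4943) (.L 5007))))) (.N 15 (.N 12 (.N 11 (.L 9089) (.L 66)) (.N 13 (.L 642) (.N 14 (.L 3842) (.L 8389)))) (.N 18 (.N 16 (.L 8397) (.N 17 (.L 8901) (.L 4096))) (.N 19 (.L 128) (.N 20 (.L 64) (.L 4744)))))) (.N 32 (.N 26 (.N 23 (.N 22 (.L 6987) (.L 6683)) (.N 24 (.L 8326) (.N 25 (.L 9280) (.L 9230)))) (.N 29 (.N 27 (.L 320) (.N 28 (.L 9344) (.L 9163))) (.N 30 (.L 256) (.N 31 (.L 9410) (.L 9222))))) (.N 37 (.N 34 (.N 33 (.L 9477) (.L 1156)) (.N 35 (.L 6147) (.N 36 (.L 6146) (.L 4934)))) (.N 40 (.N 38 (.L 841) (.N 39 (.L 1024) (.L 900))) (.N 41 (.L 4106) (.N 42 (.L 9472) (.L 9411))))))) (.N 65 (.N 54 (.N 48 (.N 45 (.N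 44 (.L 6145) (.L 6145)) (.N 46 (.L 6552) (.N 47 (.L 9153) (.L 9154)))) (.N 51 (.N 49 (.L 9348) (.N 50 (.L 9156) (.L 640))) (.N 52 (.L 4736) (.N 53 (.L 7045) (.L 9347))))) (.N 59 (.N 56 (.N 55 (.L 9162) (.L 9411)) (.N 57 (.L 9155) (.N 58 (.L 2752) (.L 962)))) (.N 62 (.N 60 (.L 4098) (.N 61 (.L 4610) (.L 6673))) (.N 63 (.L 6792) (.N 64 (.L 6480) (.L 4170)))))) (.N 76 (.N 70 (.N 67 (.N 66 (.L 1473) (.L 704)) (.N 68 (.L 2) (.N 69 (.L 258) (.L 4226)))) (.N 73 (.N 71 (.L 9345) (.N 72 (.L 2694) (.L 9159))) (.N 74 (.L 6796) (.N 75 (.L 4162) (.L 4998))))) (.N 81 (.N 78 (.N 77 (.L 4864) (.L 6855)) (.N 79 (.L 9088) (.N 80 (.L 9284) (.L 9282)))) (.N 84 (.N 82 (.L 6169) (.N 83 (.L 6210) (.L 6171))) (.N 85 (.L 6786) (.N 86 (.L 6854) (.L 1664)))))))) (.N 131 (.N 109 (.N 98 (.N 92 (.N 89 (.N 88 (.L 835) (.L 3202)) (.N 90 (.L 1734) (.N 91 (.L 6166)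 (.L 0)))) (.N 95 (.N 93 (.L 1668) (.N 94 (.L 4996) (.L 9542))) (.N 96 (.L 2052) (.N 97 (.L 3526) (.L 2886))))) (.N 103 (.N 100 (.N 99 (.L 3594) (.L 4100)) (.N 101 (.L 1794) (.N 102 (.L 3466) (.L 3338)))) (.N 106 (.N 104 (.L 9349) (.N 105 (.L 9152) (.L 9346))) (.N 107 (.L 2562) (.N 108 (.L 9041) (.L 1474)))))) (.N 120 (.N 114 (.N 111 (.N 110 (.L 840) (.L 2244)) (.N 112 (.L 3718) (.N 113 (.L 9160) (.L 833)))) (.N 117 (.N 115 (.L 450) (.N 116 (.L 9538) (.L 9157))) (.N 118 (.L 4102) (.N 119 (.L 5569) (.L 9158))))) (.N 125 (.N 122 (.N 121 (.L 8424) (.L 9283)) (.N 123 (.L 6153) (.N 124 (.L 9408) (.L 9285)))) (.N 128 (.N 126 (.L 9347) (.N 127 (.L 9479) (.L 5321))) (.N 129 (.L 5768) (.N 130 (.L 6296) (.L 6483))))))) (.N 153 (.N 142 (.N 136 (.N 133 (.N 132 (.L 6672) (.L 6471)) (.N 134 (.L 8922) (.N 135 (.L 9478) (.L 5763)))) (.N 139 (.N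 137 (.L 6297) (.N 138 (.L 6221) (.L 6105))) (.N 140 (.L 6096) (.N 141 (.L 7566) (.L 7552))))) (.N 147 (.N 144 (.N 143 (.L 7553) (.L 7757)) (.N 145 (.L 6659) (.N 146 (.L 9152) (.L 9163)))) (.N 150 (.N 148 (.L 8323) (.N 149 (.L 9409) (.L 3204))) (.N 151 (.L 4166) (.N 152 (.L 9537) (.L 7704)))))) (.N 164 (.N 158 (.N 155 (.N 154 (.L 8331) (.L 7111)) (.N 156 (.L 1094) (.N 157 (.L 6981) (.L 3653)))) (.N 161 (.N 159 (.L 2240) (.N 160 (.L 7106) (.L 3336))) (.N 162 (.L 3776) (.N 163 (.L 2242) (.L 9282))))) (.N 169 (.N 166 (.N 165 (.L 6978) (.L 4224)) (.N 167 (.L 6990) (.N 168 (.L 7051) (.L 9477)))) (.N 172 (.N 170 (.L 9408) (.N 171 (.L 1281) (.L 3208))) (.N 173 (.L 3978) (.N 174 (.L 3206) (.L 1802)))))))))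

noncomputable def tC : Tr := (.N 119 (.N 59 (.N 29 (.N 14 (.N 7 (.N 3 (.N 1 (.L 2) (.N 2 (.L 66) (.L 130))) (.N 5 (.N 4 (.L 194) (.L 258)) (.N 6 (.L 322) (.L 386)))) (.N 10 (.N 8 (.L 450) (.N 9 (.L 514) (.L 192))) (.N 12 (.N 11 (.L 2114) (.L 2754)) (.N 13 (.L 2822) (.L 2753))))) (.N 21 (.N 17 (.N 15 (.L 2306) (.N 16 (.L 2821) (.L 2370))) (.N 19 (.N 18 (.L 2434) (.L 0)) (.N 20 (.L 3997) (.L 640)))) (.N 25 (.N 23 (.N 22 (.L 3015) (.L 3016)) (.N 24 (.L 644) (.L 384))) (.N 27 (.N 26 (.L 2562) (.L 2560)) (.N 28 (.L 2056) (.L 1346)))))) (.N 44 (.N 36 (.N 32 (.N 30 (.L 320) (.N 31 (.L 586) (.L 2498))) (.N 34 (.N 33 (.L 832) (.L 1024)) (.N 35 (.L 3856) (.L 3859)))) (.N 40 (.N 38 (.N 37 (.L 3077) (.L 3419)) (.N 39 (.L 3404) (.L 3841))) (.N 42 (.N 41 (.L 4423) (.L 256)) (.N 43 (.L 1670) (.L 3781))))) (.N 51 (.N 47 (.N 45 (.L 836) (.N 46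 (.L 906) (.L 2562))) (.N 49 (.N 48 (.L 2560) (.L 1792)) (.N 50 (.L 1472) (.L 1286)))) (.N 55 (.N 53 (.N 52 (.L 1280) (.L 3863)) (.N 54 (.L 3848) (.L 448))) (.N 57 (.N 56 (.L 2432) (.L 256)) (.N 58 (.L 1478) (.L 1606))))))) (.N 89 (.N 74 (.N 66 (.N 62 (.N 60 (.L 512) (.N 61 (.L 3013) (.L 3014))) (.N 64 (.N 63 (.L 580) (.L 2883)) (.N 65 (.L 3852) (.L 448)))) (.N 70 (.N 68 (.N 67 (.L 1992) (.L 2432)) (.N 69 (.L 1730) (.L 1412))) (.N 72 (.N 71 (.L 2434) (.L 1797)) (.N 73 (.L 3783) (.L 2054))))) (.N 81 (.N 77 (.N 75 (.L 3863) (.N 76 (.L 1988) (.L 1793))) (.N 79 (.N 78 (.L 1604) (.L 2050)) (.N 80 (.L 772) (.L 4489)))) (.N 85 (.N 83 (.N 82 (.L 3269) (.L 3977)) (.N 84 (.L 3783) (.L 2052))) (.N 87 (.N 86 (.L 833) (.L 1152)) (.N 88 (.L 1990) (.L 1664)))))) (.N 104 (.N 96 (.N 92 (.N 90 (.L 1994) (.N 91 (.L 2824) (.L 3804))) (.N 94 (.N 93 (.L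 3994) (.L 1290)) (.N 95 (.L 128) (.L 1539)))) (.N 100 (.N 98 (.N 97 (.L 2880) (.L 3865)) (.N 99 (.L 258) (.L 1930))) (.N 102 (.N 101 (.L 1476) (.L 3598)) (.N 103 (.L 3589) (.L 2112))))) (.N 111 (.N 107 (.N 105 (.L 2368) (.N 106 (.L 3648) (.L 1226))) (.N 109 (.N 108 (.L 5451) (.L 4169)) (.N 110 (.L 128) (.L 646)))) (.N 115 (.N 113 (.N 112 (.L 1670) (.L 320)) (.N 114 (.L 2496) (.L 4187))) (.N 117 (.N 116 (.L 130) (.L 3856)) (.N 118 (.L 3080) (.L 5456)))))))) (.N 178 (.N 148 (.N 133 (.N 126 (.N 122 (.N 120 (.L 2756) (.N 121 (.L 4109) (.L 194))) (.N 124 (.N 123 (.L 4507) (.L 1224)) (.N 125 (.L 4171) (.L 578)))) (.N 129 (.N 127 (.L 2761) (.N 128 (.L 3850) (.L 4160))) (.N 131 (.N 130 (.L 192) (.L 1608)) (.N 132 (.L 1418) (.L 3472))))) (.N 140 (.N 136 (.N 134 (.L 5189) (.N 135 (.L 3464) (.L 3608))) (.N 138 (.N 137 (.L 1344) (.L 3205))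 (.N 139 (.L 3584) (.L 1352)))) (.N 144 (.N 142 (.N 141 (.L 1416) (.L 4186)) (.N 143 (.L 3461) (.L 3201))) (.N 146 (.N 145 (.L 4096) (.L 3475)) (.N 147 (.L 3333) (.L 1218)))))) (.N 163 (.N 155 (.N 151 (.N 149 (.L 4174) (.N 150 (.L 4163) (.L 4505))) (.N 153 (.N 152 (.L 5445) (.L 2304)) (.N 154 (.L 4043) (.L 3338)))) (.N 159 (.N 157 (.N 156 (.L 4167) (.L 4102)) (.N 158 (.L 5525) (.L 1350))) (.N 161 (.N 160 (.L 66) (.L 706)) (.N 162 (.L 3210) (.L 1220))))) (.N 170 (.N 166 (.N 164 (.L 4189) (.N 165 (.L 4169) (.L 5445))) (.N 168 (.N 167 (.L 0) (.L 3473)) (.N 169 (.L 3462) (.L 1216)))) (.N 174 (.N 172 (.N 171 (.L 1482) (.L 3470)) (.N 173 (.L 650) (.L 960))) (.N 176 (.N 175 (.L 5511) (.L 3074)) (.N 177 (.L 4168) (.L 3340))))))) (.N 208 (.N 193 (.N 185 (.N 181 (.N 179 (.L 3072) (.N 180 (.L 3267) (.L 3480))) (.N 183 (.N 182 (.L 3465) (.L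 4110)) (.N 184 (.L 4184) (.L 1864)))) (.N 189 (.N 187 (.N 186 (.L 5460) (.L 3469)) (.N 188 (.L 580) (.L 3466))) (.N 191 (.N 190 (.L 4229) (.L 1864)) (.N 192 (.L 3482) (.L 1154))))) (.N 200 (.N 196 (.N 194 (.L 1088) (.N 195 (.L 1284) (.L 3463))) (.N 198 (.N 197 (.L 3791) (.L 3592)) (.N 199 (.L 4101) (.L 4106)))) (.N 204 (.N 202 (.N 201 (.L 4229) (.L 3331)) (.N 203 (.L 3335) (.L 835))) (.N 206 (.N 205 (.L 2953) (.L 3605)) (.N 207 (.L 3268) (.L 3476)))))) (.N 223 (.N 215 (.N 211 (.N 209 (.L 3328) (.N 210 (.L 3208) (.L 3461))) (.N 213 (.N 212 (.L 2048) (.L 2816)) (.N 214 (.L 1924) (.L 1668)))) (.N 219 (.N 217 (.N 216 (.L 4034) (.L 4046)) (.N 218 (.L 3471) (.L 3591))) (.N 221 (.N 220 (.L 3210) (.L 3795)) (.N 222 (.L 3478) (.L 3474))))) (.N 230 (.N 226 (.N 224 (.L 5449) (.N 225 (.L 5515) (.L 2755))) (.N 228 (.N 227 (.L 2752) (.L 2819))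 (.N 229 (.L 4179) (.L 3200)))) (.N 234 (.N 232 (.N 231 (.L 3914) (.L 3781)) (.N 233 (.L 1666) (.L 2757))) (.N 236 (.N 235 (.L 2752) (.L 5058)) (.N 237 (.L 1795) (.L 64)))))))))

end Cfsg.Agent.HeldHe.WordCodes
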