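import Cfsg.Agent.HeldHe.Rels
import Cfsg.Agent.HeldHe.AAll
import Cfsg.Agent.HeldHe.BAll
import Cfsg.Agent.HeldHe.CAll
import Cfsg.Agent.HeldHe.FastHyp
import Cfsg.Agent.HeldHe.WordCodes

/-!
# A group generated by ten letters satisfying `HeRels` has order at most `4030387200`
-/

set_option autoImplicit false

namespace Cfsg.Agent.HeldHe.Bound

open Cfsg.Agent.SporadicRecognition.CosetCert Cfsg.Agent.SporadicRecognition.CosetCertHyp
  Cfsg.Agent.SporadicRecognition.CosetChain Cfsg.Agent.HeldHe.Rels Cfsg.Agent.HeldHe.FastHyp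
  Cfsg.Agent.HeldHe.WordCodes

section
variable {G : Type*} [Group G]

theorem ev_congr {g g' : ℕ → G} {r : List ℕ} (h : ∀ l ∈ r, g l = g' l) : ev g r = ev g' r := by
  unfold ev
  rw [List.map_congr_left h]

/-- relators with letters `< 6` -/
def relsT : List (List ℕ) := relsA.filter fun r => r.all fun l => Nat.blt l 6

theorem relsT_lt : ∀ r ∈ relsT, ∀ l ∈ r, l < 6 := by decide +kernel

theorem relsT_sub : ∀ r ∈ relsT, r ∈ relsA := fun _ hr => List.mem_of_mem_filter hr

theorem checkT : chk CData.C.inv CData.C.k relsT CData.C.words tC = true := by decide +kernel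

theorem checkT' : ST.allB (okSub CData.C.inv CData.C.k []) CData.C.subs = true := by decide +kernel

theorem card_T {L : ℕ → G} (h : HeRels L) :
    Finite (Subgroup.closure (L '' {n | n < 6})) ∧
      Nat.card (Subgroup.closure (L '' {n | n < 6})) ≤ 1024 := by
  have := bound CData.C L (⊥ : Subgroup G) relsT [] tC CAll.part (by decide +kernel)
    (fun n hn => ⟨hn, h.sq n (lt_trans hn (by decide))⟩) relsT_lt
    (fun r hr => h.rel r (relsT_sub r hr)) (by simp) (by simp) checkT checkT'
  refine ⟨this.1, this.2.trans ?_⟩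
  rw [Nat.card_eq_one_iff_unique.mpr ⟨inferInstance, inferInstance⟩]

/-- the letters of the normaliser of `F1`: `8 = e`, `9 = e⁻¹` -/
def LE (L : ℕ → G) (n : ℕ) : G := if n = 8 then ev L (expd 8) else if n = 9 then ev L (expd 9) else L n

/-- relators for the second step -/
def relsN : List (List ℕ) := (relsA.filter fun r => r.all fun l => Nat.blt l 8) ++ relsE

theorem relsN_lt : ∀ r ∈ relsN, ∀ l ∈ r, l < 10 := by decide +kernel

/-- the words of the subgroup -/
def sT : List (List ℕ) := [[0],[1],[2],[3],[4],[5]]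

theorem checkN : chk BData.C.inv BData.C.k relsN BData.C.words tB = true := by decide +kernel

theorem checkN' : ST.allB (okSub BData.C.inv BData.C.k sT) BData.C.subs = true := by decide +kernel

theorem ev_expd (L : ℕ → G) (w : List ℕ) :
    ev L ((w.map expd).flatten) = ev (LE L) w := by
  induction w with
  | nil => rfl
  | cons x w ih =>
    rw [List.map_cons, List.flatten_cons, ev_append, ev_cons, ih]
    congr 1
    unfold LE
    by_cases h8 : x = 8
    · rw [if_pos h8, h8]
    · rw [if_neg h8]
      by_cases h9 : x = 9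
      · rw [if_pos h9, h9]
      · rw [if_neg h9]
        have : expd x = [x] := by unfold expd; rw [if_neg h8, if_neg h9]
        rw [this, ev_cons, ev_nil, mul_one]

theorem LE_lt {L : ℕ → G} {n : ℕ} (h : n < 8) : LE L n = L n := by
  unfold LE
  rw [if_neg (by omega), if_neg (by omega)]

theorem sq8 {L : ℕ → G} (h : HeRels L) : ev L (expd 8) * ev L (expd 9) = 1 := by
  have e8 : ev L (expd 8) = L 3 * (L 4 * (L 9 * (L 5 * (L 4 * L 3)))) := by
    simp [expd, ev]
  have e9 : ev L (expd 9) = L 3 * (L 4 * (L 5 * (L 9 * (L 4 * L 3)))) := by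
    simp [expd, ev]
  have h3 : ∀ a, L 3 * (L 3 * a) = a := fun a => by rw [← mul_assoc, h.sq 3 (by norm_num), one_mul]
  have h4 : ∀ a, L 4 * (L 4 * a) = a := fun a => by rw [← mul_assoc, h.sq 4 (by norm_num), one_mul]
  have h5 : ∀ a, L 5 * (L 5 * a) = a := fun a => by rw [← mul_assoc, h.sq 5 (by norm_num), one_mul]
  have h9 : ∀ a, L 9 * (L 9 * a) = a := fun a => by rw [← mul_assoc, h.sq 9 (by norm_num), one_mul]
  rw [e8, e9]
  simp only [mul_assoc, h3, h4, h5, h9, h.sq 3 (by norm_num)]

theorem card_N {L : ℕ → G} (h : HeRels L) :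
    Finite (Subgroup.closure (LE L '' {n | n < 10})) ∧
      Nat.card (Subgroup.closure (LE L '' {n | n < 10})) ≤ 138240 := by
  obtain ⟨h1, h2⟩ := card_T h
  have h89 := sq8 h
  have h98 : ev L (expd 9) * ev L (expd 8) = 1 := mul_eq_one_comm.mp h89
  have := bound BData.C (LE L) (Subgroup.closure (L '' {n | n < 6})) relsN sT tB BAll.part (by decide +kernel)
    (by
      intro n hn
      have hn' : n < 10 := hn
      interval_cases n
      · exact ⟨by decide, h.sq 0 (by norm_num)⟩
      · exact ⟨by decide, h.sq 1 (by norm_num)⟩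
      · exact ⟨by decide, h.sq 2 (by norm_num)⟩
      · exact ⟨by decide, h.sq 3 (by norm_num)⟩
      · exact ⟨by decide, h.sq 4 (by norm_num)⟩
      · exact ⟨by decide, h.sq 5 (by norm_num)⟩
      · exact ⟨by decide, h.sq 6 (by norm_num)⟩
      · exact ⟨by decide, h.sq 7 (by norm_num)⟩
      · exact ⟨by decide, h89⟩
      · exact ⟨by decide, h98⟩)
    relsN_lt
    (by
      intro r hr
      rcases List.mem_append.mp hr with hr | hr
      · obtain ⟨h3, h4⟩ := List.mem_filter.mp hr
        have h5 : ∀ l ∈ r, l < 8 := fun l hl => Nat.le_of_ble_eq_true (List.all_eq_true.mp h4 l hl)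
        rw [ev_congr (fun l hl => LE_lt (h5 l hl))]
        exact h.rel r h3
      · rw [← ev_expd]
        exact h.relB _ (List.mem_map.mpr ⟨r, hr, rfl⟩))
    (by decide +kernel)
    (by
      intro r hr
      have key : ∀ r ∈ sT, ∃ l < 6, r = [l] := by decide +kernel
      obtain ⟨l, hl, rfl⟩ := key r hr
      rw [ev_cons, ev_nil, mul_one, LE_lt (by omega)]
      exact Subgroup.subset_closure ⟨l, hl, rfl⟩)
    checkN checkN'
  exact ⟨this.1, this.2.trans (by omega)⟩

theorem relsA_lt : ∀ r ∈ relsA, ∀ l ∈ r, l < 10 := by decide +kernel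

/-- the words of the normaliser of `F1` -/
def sN : List (List ℕ) := [[2],[3],[4],[5],[6],[7],[3,4,9,5,4,3]]

theorem checkA : chk AData.C.inv AData.C.k relsA AData.C.words tA = true := by decide +kernel

theorem checkA' : ST.allB (okSub AData.C.inv AData.C.k sN) AData.C.subs = true := by decide +kernel

/-- **A group generated by ten letters satisfying the relations has order at most `4030387200`.** -/
theorem card_le {L : ℕ → G} (h : HeRels L) :
    Finite (Subgroup.closure (L '' {n | n < 10})) ∧
      Nat.card (Subgroup.closure (L '' {n | n < 10})) ≤ 4030387200 := by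
  obtain ⟨h1, h2⟩ := card_N h
  have := bound AData.C L (Subgroup.closure (LE L '' {n | n < 10})) relsA sN tA AAll.part (by decide +kernel)
    (fun n hn => ⟨hn, h.sq n hn⟩) relsA_lt h.rel (by decide +kernel)
    (by
      intro r hr
      have key : ∀ r ∈ sN, r = expd 8 ∨ ∃ l < 8, r = [l] := by decide +kernel
      rcases key r hr with rfl | ⟨l, hl, rfl⟩
      · exact Subgroup.subset_closure ⟨8, by norm_num, rfl⟩
      · rw [ev_cons, ev_nil, mul_one, ← LE_lt (L := L) hl]
        exact Subgroup.subset_closure ⟨l, by show l < 10; omega, rfl⟩)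
    checkA checkA'
  exact ⟨this.1, this.2.trans (by omega)⟩

end

end Cfsg.Agent.HeldHe.Bound
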