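import Cfsg.Agent.HeldHe.Rels
import Cfsg.Agent.Held.GenC

/-!
# The ten letters of the He configuration in a group with an embedded centraliser
-/

set_option autoImplicit false

namespace Cfsg.Agent.HeldHe.GenL

open Cfsg.Agent.SporadicRecognition.CosetCert Cfsg.Agent.Held.Config Cfsg.Agent.Held.Letters
  Cfsg.Agent.Held.Code Cfsg.Agent.Held.EmbSt Cfsg.Agent.Held.GenC Cfsg.Agent.HeldHe.Rels

/-- codes of the letters in the centraliser (`7` and `9` are not there) -/
def lc (n : ℕ) : ℕ :=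
  [mu (mu (X 0 1) (X 2 4)) (X 0 4), mu (mu (X 3 4) (X 0 2)) (X 0 4), X 0 1, mu (X 1 2) (X 0 4),
    mu (X 2 3) (X 0 4), X 3 4, mu (X 3 2) (X 0 4), e1, mu (X 2 1) (X 0 4), e1].getD n e1

theorem lc_of_ge {n : ℕ} (h : 10 ≤ n) : lc n = e1 := by
  unfold lc
  rw [List.getD_eq_getElem?_getD, List.getElem?_eq_none (by simpa using h)]
  rfl

theorem C_lc (n : ℕ) : C (lc n) := by
  rcases Nat.lt_or_ge n 10 with h | h
  · have key : ∀ n < 10, isC (lc n) (lc n) = true := by decide +kernel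
    exact C_of_isC (key n h)
  · rw [lc_of_ge h]; exact C_e1

/-- code of a word -/
def evl (r : List ℕ) : ℕ := r.foldr (fun l a => mu (lc l) a) e1

theorem C_evl (r : List ℕ) : C (evl r) := by
  induction r with
  | nil => exact C_e1
  | cons l r ih => exact (C_lc l).mul ih

section
variable {G : Type*} [Group G] {z : G} {ph : ℕ → G}

/-- the ten letters -/
def Lt (ph : ℕ → G) (y1 y2 : G) (n : ℕ) : G :=
  if n = 7 then y2 * ph (X 0 1) else if n = 9 then y1 * ph (X 3 4) else ph (lc n)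

variable {y1 y2 : G}

theorem Lt7 : Lt ph y1 y2 7 = y2 * ph (X 0 1) := rfl

theorem Lt9 : Lt ph y1 y2 9 = y1 * ph (X 3 4) := rfl

theorem Lt_ph {n : ℕ} (h7 : n ≠ 7) (h9 : n ≠ 9) : Lt ph y1 y2 n = ph (lc n) := by
  unfold Lt
  rw [if_neg h7, if_neg h9]

/-- words without the letters `7`, `9` -/
theorem ev_Lt (h : Emb z ph) (r : List ℕ) (hr : ∀ l ∈ r, l ≠ 7 ∧ l ≠ 9) :
    ev (Lt ph y1 y2) r = ph (evl r) := by
  induction r with
  | nil => exact (ph_e1 h).symm
  | cons l r ih =>
    rw [ev_cons, ih (fun l hl => hr l (by simp [hl])), Lt_ph (hr l (by simp)).1 (hr l (by simp)).2,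
      ← h.mul (C_lc l) (C_evl r)]
    rfl

/-- the letters `7`, `9` do not occur -/
def inC (r : List ℕ) : Bool := r.all fun l => !(Nat.beq l 7) && !(Nat.beq l 9)

theorem inC_sound {r : List ℕ} (h : inC r = true) : ∀ l ∈ r, l ≠ 7 ∧ l ≠ 9 := by
  intro l hl
  have := List.all_eq_true.mp h l hl
  rw [Bool.and_eq_true, Bool.not_eq_true', Bool.not_eq_true'] at this
  constructor
  · rintro rfl
    exact absurd this.1 (by decide)
  · rintro rfl
    exact absurd this.2 (by decide)

theorem codes_C : (relsA.all fun r => !(inC r) || Nat.beq (evl r) e1) = true := by decide +kernel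

/-- the relators in the centraliser -/
theorem rel_C (h : Emb z ph) {r : List ℕ} (hr : r ∈ relsA) (hC : inC r = true) :
    ev (Lt ph y1 y2) r = 1 := by
  rw [ev_Lt h r (inC_sound hC)]
  have := List.all_eq_true.mp codes_C r hr
  rw [hC] at this
  have h2 : evl r = e1 := Nat.eq_of_beq_eq_true (by simpa using this)
  rw [h2, ph_e1 h]

theorem lc_sq (n : ℕ) : mu (lc n) (lc n) = e1 := by
  rcases Nat.lt_or_ge n 10 with h | h
  · have key : ∀ n < 10, mu (lc n) (lc n) = e1 := by decide +kernel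
    exact key n h
  · rw [lc_of_ge h]; decide +kernel

/-- the letters are involutions -/
theorem sq (h : Emb z ph) {t1 t2 : ℕ} {f : G} (c : Config (fun i j => ph (X i j)) t1 t2 f y1 y2) :
    ∀ n < 10, Lt ph y1 y2 n * Lt ph y1 y2 n = 1 := by
  intro n hn
  by_cases h7 : n = 7
  · rw [h7, Lt7]
    have h1 : ph (X 0 1) * y2 * ph (X 0 1) = y2⁻¹ := c.side2.inv
    calc y2 * ph (X 0 1) * (y2 * ph (X 0 1)) = y2 * (ph (X 0 1) * y2 * ph (X 0 1)) := by group
      _ = 1 := by rw [h1, mul_inv_cancel]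
  · by_cases h9 : n = 9
    · rw [h9, Lt9]
      have h1 : ph (X 3 4) * y1 * ph (X 3 4) = y1⁻¹ := c.side1.inv
      calc y1 * ph (X 3 4) * (y1 * ph (X 3 4)) = y1 * (ph (X 3 4) * y1 * ph (X 3 4)) := by group
        _ = 1 := by rw [h1, mul_inv_cancel]
    · rw [Lt_ph h7 h9, ← h.mul (C_lc n) (C_lc n), lc_sq, ph_e1 h]

/-- the root elements as words in the letters -/
def rootW : List (List ℕ) := [[2], [0,1,0,5], [0,1,2,4,1,4], [0,1,0,1], [0,1,0,1,3], [3,4,3,4],
  [0,2,3,0,2,3], [0,1,0,1,4], [1,0,1,2], [5], [0,1,0,1,8], [0,1,0,1,6]]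

theorem rootW_code : ∀ n < 12, evl (rootW.getD n []) = cx n := by decide +kernel

theorem rootW_inC : ∀ n < 12, inC (rootW.getD n []) = true := by decide +kernel

theorem rootW_lt : ∀ n < 12, ∀ l ∈ rootW.getD n [], l < 10 := by decide +kernel

theorem gx_mem (h : Emb z ph) {n : ℕ} (hn : n < 12) :
    gx (fun i j => ph (X i j)) n ∈ Subgroup.closure (Lt ph y1 y2 '' {n | n < 10}) := by
  rw [gx_ph h, ← rootW_code n hn, ← ev_Lt (y1 := y1) (y2 := y2) h _ (inC_sound (rootW_inC n hn))]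
  exact ev_mem _ _ _ fun l hl => Subgroup.subset_closure ⟨l, rootW_lt n hn l hl, rfl⟩

/-- **The letters generate `⟨C(z), y1, y2⟩`.** -/
theorem closure_Lt (h : Emb z ph) :
    Subgroup.closure (Lt ph y1 y2 '' {n | n < 10}) =
      Subgroup.centralizer ({z} : Set G) ⊔ Subgroup.closure {y1, y2} := by
  apply le_antisymm
  · rw [Subgroup.closure_le]
    rintro _ ⟨n, hn, rfl⟩
    have hC : ∀ a, C a → ph a ∈ Subgroup.centralizer ({z} : Set G) := by
      intro a ha
      rw [Subgroup.mem_centralizer_singleton_iff]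
      exact h.comm ha
    have m1 : y1 ∈ Subgroup.closure {y1, y2} := Subgroup.subset_closure (by simp)
    have m2 : y2 ∈ Subgroup.closure {y1, y2} := Subgroup.subset_closure (by simp)
    have hX1 : C (X 0 1) := C_of_isC (by decide +kernel : isC (X 0 1) (X 0 1) = true)
    have hX2 : C (X 3 4) := C_of_isC (by decide +kernel : isC (X 3 4) (X 3 4) = true)
    by_cases h7 : n = 7
    · rw [h7, Lt7]
      exact mul_mem (Subgroup.mem_sup_right m2) (Subgroup.mem_sup_left (hC _ hX1))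
    · by_cases h9 : n = 9
      · rw [h9, Lt9]
        exact mul_mem (Subgroup.mem_sup_right m1) (Subgroup.mem_sup_left (hC _ hX2))
      · rw [Lt_ph h7 h9]
        exact Subgroup.mem_sup_left (hC _ (C_lc n))
  · refine sup_le ?_ ?_
    · rw [← closure_gx h, Subgroup.closure_le]
      rintro _ ⟨n, hn, rfl⟩
      exact gx_mem h hn
    · have k1 : ph (X 0 1) ∈ Subgroup.closure (Lt ph y1 y2 '' {n | n < 10}) :=
        Subgroup.subset_closure ⟨2, by norm_num, rfl⟩
      have k2 : ph (X 3 4) ∈ Subgroup.closure (Lt ph y1 y2 '' {n | n < 10}) :=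
        Subgroup.subset_closure ⟨5, by norm_num, rfl⟩
      have k3 : y2 * ph (X 0 1) ∈ Subgroup.closure (Lt ph y1 y2 '' {n | n < 10}) :=
        Subgroup.subset_closure ⟨7, by norm_num, rfl⟩
      have k4 : y1 * ph (X 3 4) ∈ Subgroup.closure (Lt ph y1 y2 '' {n | n < 10}) :=
        Subgroup.subset_closure ⟨9, by norm_num, rfl⟩
      rw [Subgroup.closure_le]
      rintro _ (rfl | rfl)
      · exact (Subgroup.mul_mem_cancel_right _ k2).mp k4
      · exact (Subgroup.mul_mem_cancel_right _ k1).mp k3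

end

end Cfsg.Agent.HeldHe.GenL
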