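import Cfsg.Agent.SporadicRecognition.CosetChain

/-!
# Relators for the Held group over the centraliser of an involution (configuration `(1, 1)`)

Letters (1-based root elements `x_ij = I + E_ij`, `z = x_15`, conventions of `Cfsg.Agent.Held`), all involutions:
`0 = a = x12 x35 z`, `1 = b = x45 x13 z`, `2 = p = x12`, `3 = q = x23 z`, `4 = r = x34 z`, `5 = s = x45`,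
`6 = n = x43 z`, `7 = v = y2 x12`, `8 = m = x32 z`, `9 = u = y1 x45`.
-/

set_option autoImplicit false

namespace Cfsg.Agent.HeldHe.Rels

open Cfsg.Agent.SporadicRecognition.CosetCert

/-- the relators (besides the squares of the ten letters) -/
def relsA : List (List ℕ) := [
  [0,8,0,8], [0,2,0,2], [0,4,0,4], [0,5,0,5], [1,6,1,6], [1,2,1,2], [1,3,1,3], [1,5,1,5],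
  [8,2,8,2], [8,4,8,4], [8,5,8,5], [6,2,6,2], [6,3,6,3], [6,5,6,5], [2,4,2,4], [2,5,2,5],
  [3,5,3,5], [0,6,0,6,5], [1,8,1,8,2], [0,1,2,1,0,2], [0,1,5,1,0,5], [0,8,0,2,8,2],
  [0,8,0,4,8,4], [0,8,0,5,8,5], [0,8,2,0,8,2], [0,8,2,0,2,8], [0,8,2,8,0,2], [0,8,4,0,8,4],
  [0,8,4,0,4,8], [0,8,4,8,0,4], [0,8,5,0,8,5], [0,8,5,0,5,8], [0,8,5,8,0,5], [0,6,2,6,0,2],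
  [0,6,5,6,0,5], [0,2,0,4,2,4], [0,2,0,5,2,5], [0,2,4,0,2,4], [0,2,4,0,4,2], [0,2,4,2,0,4],
  [0,2,5,0,2,5], [0,2,5,0,5,2], [0,2,5,2,0,5], [0,3,5,3,0,5], [0,4,5,0,5,4], [1,8,2,8,1,2],
  [1,8,5,8,1,5], [1,6,1,2,6,2], [1,6,1,3,6,3], [1,6,1,5,6,5], [1,6,2,1,6,2], [1,6,2,1,2,6],
  [1,6,2,6,1,2], [1,6,3,1,6,3], [1,6,3,1,3,6], [1,6,3,6,1,3], [1,6,5,1,6,5], [1,6,5,1,5,6],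
  [1,6,5,6,1,5], [1,2,1,4,2,4], [1,2,1,5,2,5], [1,2,3,1,3,2], [1,2,5,1,2,5], [1,2,5,1,5,2],
  [1,2,5,2,1,5], [1,3,1,5,3,5], [1,3,5,1,3,5], [1,3,5,1,5,3], [1,3,5,3,1,5], [8,6,2,6,8,2],
  [8,6,5,6,8,5], [8,2,8,4,2,4], [8,2,8,5,2,5], [8,2,4,8,2,4], [8,2,4,8,4,2], [8,2,4,2,8,4],
  [8,2,5,8,2,5], [8,2,5,8,5,2], [8,2,5,2,8,5], [8,3,8,3,8,3], [8,3,5,3,8,5], [8,4,5,8,5,4],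
  [6,2,6,4,2,4], [6,2,6,5,2,5], [6,2,3,6,3,2], [6,2,5,6,2,5], [6,2,5,6,5,2], [6,2,5,2,6,5],
  [6,3,6,5,3,5], [6,3,5,6,3,5], [6,3,5,6,5,3], [6,3,5,3,6,5], [6,4,6,4,6,4], [2,3,5,3,2,5],
  [2,4,5,2,5,4], [9,5,0,5,9,0], [9,5,8,5,9,8], [9,5,3,5,9,3], [9,5,9,5,9,5], [7,2,1,2,7,1],
  [7,2,6,2,7,6], [7,2,4,2,7,4], [7,2,7,2,7,2], [0,1,0,1,0,1,0,1], [0,1,0,5,0,1,0,5],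
  [0,1,2,1,0,1,2,1], [0,6,0,6,0,6,0,6], [0,3,0,3,0,3,0,3], [1,8,1,8,1,8,1,8],
  [1,4,1,4,1,4,1,4], [8,6,8,6,8,6,8,6], [2,3,2,3,2,3,2,3], [2,7,0,3,0,7,2,3],
  [3,4,3,4,3,4,3,4], [4,5,4,5,4,5,4,5], [5,9,1,4,1,9,5,4], [2,7,3,7,2,3,0,3,0],
  [2,7,5,7,2,0,3,1,0], [5,9,2,9,5,1,4,0,1], [5,9,4,9,5,4,1,4,1], [0,1,0,1,0,2,1,0,1,2],
  [0,1,0,1,8,0,1,0,1,8], [0,1,0,1,6,0,1,0,1,6], [0,1,0,1,2,0,1,0,1,2], [0,1,0,1,3,0,1,0,1,3],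
  [0,1,0,1,4,0,1,0,1,4], [0,1,0,1,5,0,1,0,1,5], [0,1,0,2,5,0,1,0,2,5], [0,1,2,5,1,0,1,2,5,1],
  [8,6,8,6,2,8,6,8,6,2], [8,6,8,6,5,8,6,8,6,5], [0,1,0,1,8,2,0,1,0,1,8,2],
  [0,1,0,1,8,5,0,1,0,1,8,5], [0,1,0,1,6,2,0,1,0,1,6,2], [0,1,0,1,6,5,0,1,0,1,6,5],
  [0,1,0,1,3,5,0,1,0,1,3,5], [0,1,0,1,4,2,0,1,0,1,4,2], [0,1,2,4,1,4,0,1,2,4,1,4],
  [0,2,3,0,2,3,0,2,3,0,2,3], [9,5,9,5,9,5,9,5,9,5,9,5], [7,2,7,2,7,2,7,2,7,2,7,2],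
  [0,1,0,1,3,8,6,8,3,8,6,8,6], [0,1,0,1,6,8,6,0,1,0,1,6,8,6], [0,1,0,1,4,3,4,0,1,0,1,4,3,4],
  [0,1,0,2,1,0,1,5,1,2,1,0,1,5], [0,1,2,4,1,3,4,3,2,4,3,4,3,2], [0,1,2,4,1,4,2,0,1,2,4,1,4,2],
  [0,1,2,4,1,4,5,1,0,2,4,1,4,5], [0,2,3,0,2,3,5,0,2,3,0,2,3,5],
  [0,1,0,1,4,8,6,8,6,8,4,8,6,8,6], [0,1,0,1,0,1,0,5,0,1,0,1,0,1,0,5],
  [0,1,0,1,0,1,2,5,4,1,0,1,0,5,4,1], [0,1,0,1,8,6,8,6,0,1,0,1,8,6,8,6],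
  [0,1,0,1,3,2,0,1,0,1,3,5,0,1,0,2], [0,1,0,1,3,4,3,4,0,1,0,1,3,4,3,4],
  [0,1,0,1,4,0,1,0,5,0,1,0,4,2,0,5], [0,1,0,6,8,6,8,5,0,1,0,6,8,6,8,5],
  [0,1,0,4,3,4,3,5,0,1,0,4,3,4,3,5], [0,1,6,8,6,8,2,1,0,1,6,8,6,8,2,1],
  [0,1,2,3,4,3,4,1,0,1,2,3,4,3,4,1], [0,2,3,0,2,3,5,4,3,4,3,5,4,3,4,3],
  [0,2,3,0,2,4,3,4,0,2,3,0,2,4,3,4], [3,4,9,5,4,3,1,2,3,4,9,5,4,3,1,2],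
  [3,4,9,5,4,3,1,4,3,4,9,5,4,3,1,4], [3,4,9,5,4,3,2,1,3,4,9,5,4,3,2,1],
  [3,4,9,5,4,3,7,2,3,4,5,9,4,3,2,7], [4,3,7,2,3,4,0,3,4,3,7,2,3,4,0,3],
  [4,3,7,2,3,4,0,5,4,3,7,2,3,4,0,5], [4,3,7,2,3,4,5,0,4,3,7,2,3,4,5,0],
  [0,1,0,1,0,1,0,1,8,0,1,0,1,0,1,0,1,8], [0,1,0,1,0,1,0,1,6,0,1,0,1,0,1,0,1,6],
  [0,1,0,1,0,1,0,1,3,0,1,0,1,0,1,0,1,3], [0,1,0,1,0,1,0,1,4,0,1,0,1,0,1,0,1,4],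
  [0,1,0,1,8,1,0,1,2,0,1,0,1,8,1,0,1,2], [0,1,0,1,6,0,1,0,5,0,1,0,1,6,0,1,0,5],
  [0,1,0,1,6,8,6,8,6,0,1,0,1,6,8,6,8,6], [0,1,0,1,3,0,1,0,5,0,1,0,1,3,0,1,0,5],
  [0,1,0,1,3,2,0,3,2,0,2,3,2,0,3,2,0,2], [0,1,0,1,4,1,0,1,2,0,1,0,1,4,1,0,1,2],
  [0,1,0,1,4,3,4,3,4,0,1,0,1,4,3,4,3,4], [3,4,9,5,4,3,4,3,4,3,4,5,9,4,3,4,3,4],
  [4,3,7,2,3,4,3,4,3,4,3,2,7,3,4,3,4,3], [0,1,0,1,8,0,1,0,5,0,1,0,1,8,2,0,1,0,5],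
  [0,1,0,1,6,1,0,1,2,0,1,0,1,6,5,1,0,1,2], [0,1,0,1,0,1,2,4,1,4,0,1,0,1,0,1,2,4,1,4],
  [0,1,0,1,0,2,3,0,2,3,0,1,0,1,0,2,3,0,2,3], [0,1,0,1,8,0,1,0,1,4,0,1,0,1,8,0,1,0,1,4],
  [0,1,0,1,6,0,1,0,1,3,0,1,0,1,6,0,1,0,1,3], [0,1,0,3,2,0,3,2,0,5,0,1,0,3,2,0,3,2,0,5],
  [0,1,0,4,1,4,2,1,0,5,0,1,0,4,1,4,2,1,0,5], [0,1,2,0,1,2,4,1,4,1,0,1,2,0,1,2,4,1,4,1],
  [0,1,2,0,2,3,0,2,3,1,0,1,2,0,2,3,0,2,3,1], [0,1,2,4,1,4,3,4,3,4,0,1,2,4,1,4,3,4,3,4],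
  [0,1,2,4,1,4,8,6,8,6,0,1,2,4,1,4,8,6,8,6,2], [0,6,8,6,8,3,2,0,3,2,0,5,6,8,6,8,3,2,0,3,2],
  [3,4,9,5,4,3,4,3,4,9,5,4,3,4,3,4,9,5,4,3,4], [4,3,7,2,3,4,3,4,3,7,2,3,4,3,4,3,7,2,3,4,3],
  [0,1,0,1,8,0,1,0,1,8,6,8,0,1,0,1,8,0,1,0,1,6], [0,1,0,1,8,0,1,2,4,1,4,0,1,0,1,8,0,1,2,4,1,4],
  [0,1,0,1,6,0,1,2,4,1,4,0,1,0,1,6,5,0,2,4,1,4], [0,1,0,1,6,0,2,3,0,2,3,0,1,0,1,6,0,2,3,0,2,3],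
  [0,1,0,1,3,0,1,0,1,3,4,3,0,1,0,1,3,0,1,0,1,4], [0,1,0,1,3,0,1,2,4,1,4,0,1,0,1,3,0,1,2,4,1,4],
  [0,1,0,1,3,0,2,3,0,2,3,0,1,0,1,3,0,2,3,0,2,3], [0,1,0,1,3,1,0,1,2,3,2,0,3,2,1,0,1,3,1,0,1,2],
  [0,1,0,1,4,0,1,2,4,1,4,0,1,0,1,4,0,1,2,4,1,4], [0,1,0,1,4,0,2,3,0,2,3,0,1,0,1,4,0,2,3,0,2,3],
  [0,1,0,1,8,3,4,3,4,0,1,0,1,8,4,1,0,1,0,3,4,3,4],
  [0,1,0,1,6,3,1,0,1,0,3,4,3,4,0,1,0,1,6,3,4,3,4],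
  [0,1,2,4,1,4,0,2,3,0,2,3,0,1,2,4,1,4,0,2,3,0,2,3],
  [0,1,0,1,8,0,2,3,0,2,3,0,1,0,1,8,2,1,0,1,0,2,3,0,2,3],
  [3,4,9,5,4,3,1,3,4,9,5,4,3,4,3,4,9,5,4,3,1,3,4,9,5,4,3,4],
  [4,3,7,2,3,4,0,4,3,7,2,3,4,3,4,3,7,2,3,4,0,4,3,7,2,3,4,3],
  [8,4,3,2,7,3,4,8,4,3,2,7,3,4,8,4,3,2,7,3,4,8,4,3,2,7,3,4,5,9],
  [6,3,4,5,9,4,3,6,3,4,5,9,4,3,6,3,4,5,9,4,3,6,3,4,5,9,4,3,2,7],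
  [3,4,9,5,4,3,7,6,2,3,4,9,5,4,3,7,6,2,3,4,9,5,4,3,7,6,2,3,4,9,5,4,3,7,6,2],
  [4,3,7,2,3,4,9,8,5,4,3,7,2,3,4,9,8,5,4,3,7,2,3,4,9,8,5,4,3,7,2,3,4,9,8,5]]

/-- relators with the block `e = q r u s r q`; letters `8 = e`, `9 = e⁻¹` -/
def relsE : List (List ℕ) := [
  [8,8,8], [8,7,2,9,2,7], [8,4,3,4,9,4,3,4], [8,1,4,8,1,4], [8,2,1,8,2,1], [8,4,8,4,8,4],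
  [8,1,8,4,8,1,8,4], [8,7,6,2,8,7,6,2,8,7,6,2,8,7,6,2]]

/-- expansion of the letters `8`, `9` of `relsE` -/
def expd (n : ℕ) : List ℕ :=
  if n = 8 then [3,4,9,5,4,3] else if n = 9 then [3,4,5,9,4,3] else [n]

/-- the relators of `relsE` in the ten letters -/
def relsB : List (List ℕ) := relsE.map fun w => (w.map expd).flatten

variable {G : Type*} [Group G]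

/-- the ten letters satisfy the relations -/
structure HeRels (L : ℕ → G) : Prop where
  sq : ∀ n < 10, L n * L n = 1
  rel : ∀ r ∈ relsA, ev L r = 1
  relB : ∀ r ∈ relsB, ev L r = 1

end Cfsg.Agent.HeldHe.Rels
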